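import Mathlib.RingTheory.Etale.Basic
import Mathlib.RingTheory.Localization.Away.Basic
import Mathlib.RingTheory.Smooth.Basic

/-!
# Compatible lifts of sections of an étale algebra to a thickened punctured neighbourhood
-/

set_option autoImplicit false
set_option linter.style.haveILetI false
set_option maxHeartbeats 800000

noncomputable section

universe u

namespace Groth.Agent.PurityReg

variable {R C B₁ B₀ C₀ : Type u} [CommRing R] [CommRing C] [CommRing B₁] [CommRing B₀] [CommRing C₀]
  [Algebra R C] [Algebra R B₁]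

omit [CommRing B₀] [CommRing C₀] in
theorem exists_lift_aux [Algebra.FormallySmooth R C] {S T : Type u} [CommRing S] [CommRing T] [Algebra R S]
    (φ : S →+* T) (hsurj : Function.Surjective φ) (hnil : IsNilpotent (RingHom.ker φ)) (f : C →+* T)
    (hf : ∀ t : R, f (algebraMap R C t) = φ (algebraMap R S t)) :
    ∃ ψ : C →ₐ[R] S, ∀ c, φ (ψ c) = f c := by
  letI : Algebra R T := (φ.comp (algebraMap R S)).toAlgebra
  let g : S →ₐ[R] T := { φ with commutes' := fun _ => rfl }
  let f' : C →ₐ[R] T := { f with commutes' := hf }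
  exact ⟨Algebra.FormallySmooth.liftOfSurjective f' g hsurj hnil,
    Algebra.FormallySmooth.liftOfSurjective_apply f' g hsurj hnil⟩

/-- The map on localisations. -/
abbrev phi (κ : B₁ →+* C₀) (b : B₁) : Localization.Away b →+* Localization.Away (κ b) :=
  Localization.awayMap κ b

omit [Algebra R C] in
theorem phi_algebraMap (κ : B₁ →+* C₀) (b x : B₁) :
    phi κ b (algebraMap B₁ _ x) = algebraMap C₀ _ (κ x) :=
  IsLocalization.map_eq _ _

theorem exists_lift [Algebra.FormallySmooth R C] (q : B₁ →+* B₀) (hq : Function.Surjective q)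
    (hq' : IsNilpotent (RingHom.ker q)) (ι : B₀ →+* C₀) (hι : Function.Injective ι) (ρ : C →+* C₀)
    (κ : B₁ →+* C₀) (hκ : κ = ι.comp q)
    (hc : ∀ t : R, ι (q (algebraMap R B₁ t)) = ρ (algebraMap R C t)) (b : B₁)
    (hb : ∀ y : C₀, ∃ (k : ℕ) (z : B₀), ι (q b) ^ k * y = ι z) :
    IsNilpotent (RingHom.ker (phi κ b)) ∧ ∃ ψ : C →ₐ[R] Localization.Away b,
      ∀ c, phi κ b (ψ c) = algebraMap C₀ _ (ρ c) := by
  have hκx : ∀ x, κ x = ι (q x) := fun x => hκ ▸ rfl
  have hsurj : Function.Surjective (phi κ b) := by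
    rw [Localization.awayMap_surjective_iff]
    intro y
    obtain ⟨k, z, hz⟩ := hb y
    obtain ⟨z', rfl⟩ := hq z
    exact ⟨z', k, by rw [hκx, hκx, hz]⟩
  have hnil : IsNilpotent (RingHom.ker (phi κ b)) := by
    obtain ⟨e, he⟩ := hq'
    have hle : RingHom.ker (phi κ b) ≤ (RingHom.ker q).map (algebraMap B₁ (Localization.Away b)) := by
      intro t ht
      obtain ⟨n, w, hw⟩ := IsLocalization.Away.surj b t
      have h0 : algebraMap C₀ (Localization.Away (κ b)) (κ w) = 0 := by
        rw [← phi_algebraMap, ← hw, map_mul, RingHom.mem_ker.mp ht, zero_mul]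
      obtain ⟨⟨_, m, rfl⟩, hm⟩ := (IsLocalization.map_eq_zero_iff (Submonoid.powers (κ b)) _ _).mp h0
      have hker : b ^ m * w ∈ RingHom.ker q := hι (by
        rw [map_zero, map_mul, map_mul, map_pow, map_pow, ← hκx, ← hκx]
        exact hm)
      refine (Ideal.unit_mul_mem_iff_mem _
        ((IsLocalization.Away.algebraMap_isUnit (S := Localization.Away b) b).pow (m + n))).mp ?_
      rw [show algebraMap B₁ (Localization.Away b) b ^ (m + n) * t = algebraMap B₁ _ (b ^ m * w) by
        rw [map_mul, map_pow, ← hw, pow_add]; ring]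
      exact Ideal.mem_map_of_mem _ hker
    exact ⟨e, le_bot_iff.mp ((Ideal.pow_right_mono hle e).trans (by
      rw [← Ideal.map_pow, he, Ideal.zero_eq_bot, Ideal.map_bot]))⟩
  refine ⟨hnil, exists_lift_aux (phi κ b) hsurj hnil ((algebraMap C₀ (Localization.Away (κ b))).comp ρ) fun t => ?_⟩
  rw [IsScalarTower.algebraMap_apply R B₁ (Localization.Away b), phi_algebraMap, RingHom.comp_apply, ← hc, ← hκx]

theorem exists_compatible [Algebra.FormallyEtale R C] (q : B₁ →+* B₀) (hq : Function.Surjective q)
    (hq' : IsNilpotent (RingHom.ker q)) (ι : B₀ →+* C₀) (hι : Function.Injective ι) (ρ : C →+* C₀)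
    (hc : ∀ t : R, ι (q (algebraMap R B₁ t)) = ρ (algebraMap R C t)) {r : ℕ} (b : Fin r → B₁)
    (hb : ∀ i, ∀ y : C₀, ∃ (k : ℕ) (z : B₀), ι (q (b i)) ^ k * y = ι z) (c : C) :
    ∃ (n : Fin r → ℕ) (z : Fin r → B₁),
      (∀ i j, ∃ k : ℕ, (b i * b j) ^ k * (b j ^ n j * z i - b i ^ n i * z j) = 0) ∧
      ∀ i, ∃ k : ℕ, ι (q (b i)) ^ k * (ι (q (z i)) - ι (q (b i)) ^ n i * ρ c) = 0 := by
  let κ : B₁ →+* C₀ := ι.comp q
  have hκx : ∀ x, κ x = ι (q x) := fun _ => rfl
  clear_value κ
  have hκ : κ = ι.comp q := RingHom.ext hκx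
  choose hnil ψ hψ using fun i => exists_lift q hq hq' ι hι ρ κ hκ hc (b i) (hb i)
  choose n z hz using fun i => IsLocalization.Away.surj (b i) (ψ i c)
  refine ⟨n, z, fun i j => ?_, fun i => ?_⟩
  · let P := Localization.Away (b i * b j)
    let u : Localization.Away (b i) →ₐ[R] P :=
      { IsLocalization.Away.awayToAwayRight (b i) (b j) (S := Localization.Away (b i)) (P := P) with
        commutes' := fun t => by
          rw [IsScalarTower.algebraMap_apply R B₁ (Localization.Away (b i)), IsScalarTower.algebraMap_apply R B₁ P]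
          exact IsLocalization.Away.awayToAwayRight_eq _ _ _ }
    let v : Localization.Away (b j) →ₐ[R] P :=
      { IsLocalization.Away.awayToAwayLeft (b j) (b i) (S := Localization.Away (b j)) (P := P) with
        commutes' := fun t => by
          rw [IsScalarTower.algebraMap_apply R B₁ (Localization.Away (b j)), IsScalarTower.algebraMap_apply R B₁ P]
          exact IsLocalization.Away.awayToAwayLeft_eq _ _ _ }
    have hbij : ∀ y : C₀, ∃ (k : ℕ) (w : B₀), ι (q (b i * b j)) ^ k * y = ι w := fun y => by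
      obtain ⟨k, w, hw⟩ := hb i y
      exact ⟨k, q (b j) ^ k * w, by rw [map_mul, map_mul, map_mul, map_pow, ← hw]; ring⟩
    obtain ⟨hnilP, -, -⟩ := exists_lift q hq hq' ι hι ρ κ hκ hc (b i * b j) hbij
    have key : ∀ (k : Fin r) (w : Localization.Away (b k) →ₐ[R] P),
        (∀ x : B₁, w (algebraMap B₁ _ x) = algebraMap B₁ P x) → b k ∣ b i * b j →
        ∀ c, phi κ (b i * b j) (w (ψ k c)) = algebraMap C₀ _ (ρ c) := by
      intro k w hw hdvd c
      have hu : IsUnit (algebraMap C₀ (Localization.Away (κ (b i * b j))) (κ (b k))) :=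
        isUnit_of_dvd_unit ((algebraMap _ _).map_dvd (κ.map_dvd hdvd))
          (IsLocalization.Away.algebraMap_isUnit _)
      have he : (phi κ (b i * b j)).comp w.toRingHom =
          (IsLocalization.Away.lift (κ (b k)) (S := Localization.Away (κ (b k))) hu).comp
            (phi κ (b k)) := by
        refine IsLocalization.ringHom_ext (Submonoid.powers (b k)) (RingHom.ext fun x => ?_)
        show phi κ (b i * b j) (w (algebraMap B₁ _ x)) = IsLocalization.Away.lift (κ (b k)) hu (phi κ (b k) (algebraMap B₁ _ x))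
        rw [hw]
        refine (IsLocalization.map_eq _ _).trans ?_
        refine Eq.trans ?_ (congrArg _ (IsLocalization.map_eq _ _).symm)
        exact (IsLocalization.Away.lift_eq _ hu _).symm
      refine (RingHom.congr_fun he (ψ k c)).trans ?_
      rw [RingHom.comp_apply, hψ, IsLocalization.Away.lift_eq]
    have huv : u.comp (ψ i) = v.comp (ψ j) :=
      Algebra.FormallyUnramified.ext' (phi κ (b i * b j)) hnilP _ _ fun c =>
        (key i u (fun x => IsLocalization.Away.awayToAwayRight_eq (S := Localization.Away (b i)) (P := P) (b i) (b j) x)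
          (dvd_mul_right _ _) c).trans
          (key j v (fun x => IsLocalization.Away.awayToAwayLeft_eq (S := Localization.Away (b j)) (P := P) (b j) (b i) x)
            (dvd_mul_left _ _) c).symm
    have h1 : u (ψ i c) * algebraMap B₁ P (b i ^ n i) = algebraMap B₁ P (z i) := by
      rw [← IsLocalization.Away.awayToAwayRight_eq (b i) (b j) (S := Localization.Away (b i)) (P := P) (b i ^ n i),
        ← IsLocalization.Away.awayToAwayRight_eq (b i) (b j) (S := Localization.Away (b i)) (P := P) (z i),
        map_pow (algebraMap B₁ (Localization.Away (b i))), ← hz i, map_mul]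
      rfl
    have h2 : v (ψ j c) * algebraMap B₁ P (b j ^ n j) = algebraMap B₁ P (z j) := by
      rw [← IsLocalization.Away.awayToAwayLeft_eq (b j) (b i) (S := Localization.Away (b j)) (P := P) (b j ^ n j),
        ← IsLocalization.Away.awayToAwayLeft_eq (b j) (b i) (S := Localization.Away (b j)) (P := P) (z j),
        map_pow (algebraMap B₁ (Localization.Away (b j))), ← hz j, map_mul]
      rfl
    have h3 : algebraMap B₁ P (b j ^ n j * z i - b i ^ n i * z j) = 0 := by
      have h4 : u (ψ i c) = v (ψ j c) := AlgHom.congr_fun huv c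
      rw [map_sub, map_mul, map_mul, ← h1, ← h2, h4]
      ring
    obtain ⟨⟨_, k, rfl⟩, hk⟩ := (IsLocalization.map_eq_zero_iff (Submonoid.powers (b i * b j)) P _).mp h3
    exact ⟨k, hk⟩
  · have h := congrArg (phi κ (b i)) (hz i)
    rw [map_mul, hψ, map_pow] at h
    have e1 : ∀ x : B₁, phi κ (b i) (algebraMap B₁ _ x) = algebraMap C₀ _ (ι (q x)) := fun x =>
      (phi_algebraMap κ (b i) x).trans (congrArg _ (hκx x))
    rw [e1, e1, ← map_pow, ← map_mul] at h
    obtain ⟨⟨_, k, rfl⟩, hk⟩ :=
      (IsLocalization.eq_iff_exists (Submonoid.powers (κ (b i))) _).mp h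
    refine ⟨k, ?_⟩
    have hk' : ι (q (b i)) ^ k * (ρ c * ι (q (b i)) ^ n i) = ι (q (b i)) ^ k * ι (q (z i)) := by
      rw [← hκx (b i)] at hk ⊢
      exact hk
    linear_combination -hk'

end Groth.Agent.PurityReg
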