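import Groth.Agent.PurityReg.Saturation
import Groth.Agent.PurityReg.Lift
import Groth.Agent.QuietLib.Lift
import Mathlib.RingTheory.Flat.TorsionFree

/-!
# Purity for finite étale algebras over regular local rings (Zariski–Nagata)

A finite torsion-free algebra `B` over a regular local ring of dimension `≥ 2`, saturated at the
closed point and étale off it, is étale.  The proof is by induction on the dimension, cutting by a
hyperplane section and lifting sections of the restricted cover to finitely many infinitesimal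
neighbourhoods.
-/

set_option autoImplicit false
set_option backward.isDefEq.respectTransparency.types false
set_option linter.style.haveILetI false
set_option maxHeartbeats 1600000
set_option synthInstance.maxHeartbeats 100000

noncomputable section

universe u

open IsLocalRing TensorProduct CategoryTheory

namespace Groth.Agent.PurityReg

variable {A : Type u} [CommRing A]

theorem exists_projection [IsNoetherianRing A] (x : A) (B : Type u) [CommRing B] [Algebra A B] [Module.Finite A B]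
    [Module.Flat (Localization.Away x) (Localization.Away x ⊗[A] B)]
    (htf : ∀ (m : ℕ) (z : B), x ^ m • z = 0 → z = 0) :
    ∃ (s M : ℕ) (p : (Fin s → A) →ₗ[A] B) (h : B →ₗ[A] (Fin s → A)), ∀ z, p (h z) = x ^ M • z := by
  obtain ⟨s, p, hp⟩ := Module.Finite.exists_fin' A B
  haveI : IsNoetherianRing (Localization.Away x) := IsLocalization.isNoetherianRing (Submonoid.powers x) _ inferInstance
  haveI : Module.FinitePresentation (Localization.Away x) (Localization.Away x ⊗[A] B) :=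
    Module.finitePresentation_of_finite _ _
  haveI : Module.Projective (Localization.Away x) (Localization.Away x ⊗[A] B) :=
    Module.Flat.projective_of_finitePresentation
  have hsurj : Function.Surjective (p.baseChange (Localization.Away x)) :=
    LinearMap.lTensor_surjective _ hp
  obtain ⟨t, ht⟩ := Module.projective_lifting_property (p.baseChange (Localization.Away x)) LinearMap.id hsurj
  let f : (Fin s → A) →ₗ[A] Localization.Away x ⊗[A] (Fin s → A) := TensorProduct.mk A _ _ 1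
  haveI : IsLocalizedModule (Submonoid.powers x) f :=
    (isLocalizedModule_iff_isBaseChange (Submonoid.powers x) (Localization.Away x) _).mpr
      (TensorProduct.isBaseChange A _ (Localization.Away x))
  haveI : Module.FinitePresentation A B := Module.finitePresentation_of_finite _ _
  obtain ⟨h, ⟨_, M, rfl⟩, hh⟩ := Module.FinitePresentation.exists_lift_of_isLocalizedModule
    (Submonoid.powers x) f ((t.restrictScalars A).comp (TensorProduct.mk A (Localization.Away x) B 1))
  refine ⟨s, M, p, h, fun z => ?_⟩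
  have h1 : f (h z) = x ^ M • t ((1 : Localization.Away x) ⊗ₜ[A] z) := LinearMap.congr_fun hh z
  have h2 := congrArg (p.baseChange (Localization.Away x)) h1
  rw [LinearMap.map_smul_of_tower] at h2
  have h3 : p.baseChange (Localization.Away x) (t ((1 : Localization.Away x) ⊗ₜ[A] z)) = 1 ⊗ₜ[A] z :=
    LinearMap.congr_fun ht _
  rw [h3] at h2
  simp only [f, TensorProduct.mk_apply, LinearMap.baseChange_tmul, ← TensorProduct.tmul_smul] at h2
  obtain ⟨k, hk⟩ := exists_pow_smul_eq_zero x (z := p (h z) - x ^ M • z) (by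
    rw [TensorProduct.tmul_sub, h2, sub_self])
  exact sub_eq_zero.mp (htf k _ hk)

theorem one_tmul_smul {S B : Type u} [CommRing S] [Algebra A S] [CommRing B] [Algebra A B] (c : A) (z : B) :
    (1 : S) ⊗ₜ[A] (c • z) = algebraMap A (S ⊗[A] B) c * (1 ⊗ₜ[A] z) := by
  rw [Algebra.TensorProduct.algebraMap_apply, Algebra.TensorProduct.tmul_mul_tmul, one_mul, mul_one,
    ← TensorProduct.smul_tmul, Algebra.smul_def, mul_one]

variable [IsRegularLocalRing A]

/-- The inductive step: the restriction to a regular hyperplane section is already saturated. -/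
theorem surjective_of_saturation (hd : (3 : WithBot ℕ∞) ≤ ringKrullDim A) {x : A} (hx : x ∈ maximalIdeal A)
    (hx0 : x ≠ 0) [IsDomain (A ⧸ Ideal.span {x})] (hxm : ¬ maximalIdeal A ≤ Ideal.span {x})
    (B : Type u) [CommRing B] [Algebra A B] [Module.Finite A B]
    (htf : ∀ c : A, c ≠ 0 → ∀ z : B, c • z = 0 → z = 0)
    (hC : ∀ c : A, c ≠ 0 → ∀ z : B, (∀ a ∈ maximalIdeal A, ∃ k : ℕ, ∃ w, a ^ k • z = c • w) →
      ∃ w, z = c • w)
    (het : Algebra.Etale (Localization.Away x) (Localization.Away x ⊗[A] B))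
    {C₀ : Type u} [CommRing C₀] [Algebra (A ⧸ Ideal.span {x}) C₀] [Algebra.Etale (A ⧸ Ideal.span {x}) C₀]
    (htf0 : ∀ c : A ⧸ Ideal.span {x}, c ≠ 0 → ∀ z : C₀, c • z = 0 → z = 0)
    (ι : (A ⧸ Ideal.span {x}) ⊗[A] B →ₐ[A ⧸ Ideal.span {x}] C₀) (hι : Function.Injective ι)
    (hsat : ∀ (y : C₀), ∀ a ∈ maximalIdeal A,
      ∃ (k : ℕ) (z : (A ⧸ Ideal.span {x}) ⊗[A] B), algebraMap A (A ⧸ Ideal.span {x}) a ^ k • y = ι z) :
    Function.Surjective ι := by
  classical
  haveI := RegLoc.isDomain A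
  obtain ⟨s, M, p, h, hph⟩ := exists_projection x B fun m z hz => htf (x ^ m) (pow_ne_zero m hx0) z hz
  obtain ⟨r, g, hg⟩ := exists_gens (A := A)
  let A₀ := A ⧸ Ideal.span {x}
  let B₀ := A₀ ⊗[A] B
  set y := x ^ (M + 1) with hy
  let A₁ := A ⧸ Ideal.span {y}
  let B₁ := A₁ ⊗[A] B
  have hyx : Ideal.span {y} ≤ Ideal.span {x} :=
    Ideal.span_singleton_le_span_singleton.mpr (dvd_pow_self x (Nat.succ_ne_zero M))
  have hym : Ideal.span {y} ≤ maximalIdeal A := hyx.trans ((Ideal.span_singleton_le_iff_mem _).mpr hx)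
  haveI : IsLocalRing A₁ := RegLoc.isLocalRing_quotient hym
  have hdep : 2 ≤ LocCoh.depth A₁ A₁ :=
    two_le_depth_quotient hd ((Ideal.span_singleton_le_iff_mem _).mp hym) (pow_ne_zero _ hx0)
  have hg1 : Ideal.span (Set.range fun i => algebraMap A A₁ (g i)) = maximalIdeal A₁ := by
    rw [← IsLocalRing.map_maximalIdeal_of_surjective (algebraMap A A₁) Ideal.Quotient.mk_surjective, ← hg,
      Ideal.map_span, ← Set.range_comp]
    rfl
  let π : A₁ →+* A₀ := Ideal.Quotient.factor hyx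
  let fq : A₁ →ₐ[A] A₀ := { π with commutes' := fun _ => rfl }
  let qa : B₁ →ₐ[A] B₀ := Algebra.TensorProduct.map fq (AlgHom.id A B)
  let q : B₁ →+* B₀ := qa.toRingHom
  have hqt : ∀ z : B, q ((1 : A₁) ⊗ₜ[A] z) = (1 : A₀) ⊗ₜ[A] z := fun z =>
    (Algebra.TensorProduct.map_tmul fq (AlgHom.id A B) 1 z).trans (by rw [map_one]; rfl)
  have hq : Function.Surjective q :=
    TensorProduct.map_surjective (Ideal.Quotient.factor_surjective hyx) Function.surjective_id
  have hq' : IsNilpotent (RingHom.ker q) := by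
    refine ⟨M + 1, le_bot_iff.mp ((Ideal.pow_right_mono (show RingHom.ker q ≤ Ideal.span {algebraMap A B₁ x} from ?_) _).trans ?_)⟩
    · intro t ht
      obtain ⟨z, rfl⟩ : ∃ z : B, (1 : A₁) ⊗ₜ[A] z = t :=
        (Algebra.TensorProduct.includeRight_surjective (S := A₁) B Ideal.Quotient.mk_surjective) t
      have h0 : (1 : A₀) ⊗ₜ[A] z = 0 := by
        rw [RingHom.mem_ker] at ht
        rwa [hqt] at ht
      obtain ⟨w, rfl⟩ := one_tmul_quotient_eq_zero.mp h0
      rw [one_tmul_smul]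
      exact Ideal.mul_mem_right _ _ (Ideal.mem_span_singleton_self _)
    · rw [Ideal.span_singleton_pow, ← map_pow, ← hy, IsScalarTower.algebraMap_apply A A₁ B₁,
        show algebraMap A A₁ y = 0 from Ideal.Quotient.eq_zero_iff_mem.mpr (Ideal.mem_span_singleton_self y), map_zero]
      simp
  intro c₀
  obtain ⟨C₁, g₁, ρ, hg₁, hρ, hsq⟩ := QuietLib.exists_etale_lift (A := CommRingCat.of A₁) (A₀ := CommRingCat.of A₀)
    (C₀ := CommRingCat.of C₀) (CommRingCat.ofHom π) (Ideal.Quotient.factor_surjective hyx)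
    (fun t ht => by
      obtain ⟨t, rfl⟩ := Ideal.Quotient.mk_surjective t
      have ht' : t ∈ Ideal.span {x} := Ideal.Quotient.eq_zero_iff_mem.mp ht
      obtain ⟨w, rfl⟩ := Ideal.mem_span_singleton'.mp ht'
      exact ⟨M + 1, by rw [Ideal.zero_eq_bot, Ideal.mem_bot, ← map_pow, Ideal.Quotient.eq_zero_iff_mem, mul_pow]; exact Ideal.mem_span_singleton'.mpr ⟨_, rfl⟩⟩)
    (CommRingCat.ofHom (algebraMap A₀ C₀)) (RingHom.etale_algebraMap.mpr inferInstance)
  letI : Algebra A₁ C₁ := g₁.hom.toAlgebra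
  haveI : Algebra.Etale A₁ C₁ := hg₁
  obtain ⟨c, hc⟩ := hρ c₀
  have hcomm : ∀ t : A₁, ι.toRingHom (q (algebraMap A₁ B₁ t)) = ρ.hom (algebraMap A₁ C₁ t) := fun t => by
    have e := (ConcreteCategory.congr_hom hsq.w t : ρ.hom (g₁.hom t) = algebraMap A₀ C₀ (π t))
    rw [show algebraMap A₁ C₁ t = g₁.hom t from rfl, e, ← ι.commutes (π t)]
    rfl
  have hqg : ∀ i, ι.toRingHom (q (algebraMap A B₁ (g i))) = algebraMap A₀ C₀ (algebraMap A A₀ (g i)) := fun i => by
    show ι (qa (algebraMap A B₁ (g i))) = _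
    rw [qa.commutes, IsScalarTower.algebraMap_apply A A₀ B₀, ι.commutes]
  obtain ⟨n, z, hz, hzc⟩ := exists_compatible q hq hq' ι.toRingHom hι ρ.hom hcomm
    (fun i => algebraMap A B₁ (g i)) (fun i y' => by
      obtain ⟨k, w, hw⟩ := hsat y' (g i) (hg ▸ Ideal.subset_span ⟨i, rfl⟩)
      exact ⟨k, w, by rw [hqg, ← map_pow, ← Algebra.smul_def]; exact hw⟩) c
  choose z' hz' using fun i =>
    (Algebra.TensorProduct.includeRight_surjective (S := A₁) B Ideal.Quotient.mk_surjective) (z i)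
  have hz'' : ∀ i, (1 : A₁) ⊗ₜ[A] z' i = z i := hz'
  have hcompat : ∀ i j l, ∃ k : ℕ, (algebraMap A A₁ (g i) * algebraMap A A₁ (g j)) ^ k *
      (algebraMap A A₁ (g j) ^ n j * algebraMap A A₁ (h (z' i) l) -
        algebraMap A A₁ (g i) ^ n i * algebraMap A A₁ (h (z' j) l)) = 0 := by
    intro i j l
    obtain ⟨k, hk⟩ := hz i j
    have hk' : (1 : A₁) ⊗ₜ[A] ((g i * g j) ^ k • (g j ^ n j • z' i - g i ^ n i • z' j)) = 0 := by
      refine Eq.trans ?_ hk
      simp only [one_tmul_smul, TensorProduct.tmul_sub, map_pow, map_mul, hz'']; rfl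
    obtain ⟨w, hw⟩ := one_tmul_quotient_eq_zero.mp hk'
    refine ⟨k, ?_⟩
    rw [← map_mul, ← map_pow, ← map_pow, ← map_pow, ← map_mul, ← map_mul, ← map_sub, ← map_mul]
    refine Ideal.Quotient.eq_zero_iff_mem.mpr (Ideal.mem_span_singleton'.mpr ⟨h w l, ?_⟩)
    have := congrArg (fun v => h v l) hw
    simp only [map_smul, map_sub, Pi.smul_apply, Pi.sub_apply, smul_eq_mul] at this
    rw [this]; ring
  obtain ⟨ω, hω⟩ := glue_pi hdep hg1 n (fun i l => algebraMap A A₁ (h (z' i) l)) hcompat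
  choose Ω hΩ using fun l => Ideal.Quotient.mk_surjective (ω l)
  choose k hk using hω
  have hk' : ∀ i, ∃ w : Fin s → A, g i ^ k i • (h (z' i) - g i ^ n i • Ω) = y • w := by
    intro i
    have : ∀ l, g i ^ k i * (h (z' i) l - g i ^ n i * Ω l) ∈ Ideal.span {y} := fun l => by
      refine Ideal.Quotient.eq_zero_iff_mem.mp ?_
      rw [map_mul, map_pow, map_sub, map_mul, map_pow, hΩ]
      exact hk i l
    choose w hw using fun l => Ideal.mem_span_singleton'.mp (this l)
    refine ⟨w, funext fun l => ?_⟩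
    simp only [Pi.smul_apply, Pi.sub_apply, smul_eq_mul]
    rw [← hw l, mul_comm]
  choose w hw using hk'
  have hkey : ∀ i, g i ^ (k i + n i) • p Ω = x ^ M • (g i ^ k i • z' i - x • p (w i)) := fun i => by
    have e := congrArg p (hw i)
    rw [map_smul, map_smul, map_sub, map_smul, hph, smul_sub, smul_comm (g i ^ k i) (x ^ M), smul_smul (g i ^ k i) (g i ^ n i), ← pow_add,
      hy, pow_succ, mul_smul] at e
    rw [smul_sub, ← e, sub_sub_cancel]
  obtain ⟨b, hb⟩ := hC (x ^ M) (pow_ne_zero M hx0) (p Ω) fun a ha => by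
    obtain ⟨m, w', hw'⟩ := forall_mem_of_forall_gen hg
      (LinearMap.range (LinearMap.lsmul A B (x ^ M))) (p Ω) (fun i => ⟨k i + n i, _, (hkey i).symm⟩) a ha
    exact ⟨m, w', hw'.symm⟩
  have hkey2 : ∀ i, g i ^ (k i + n i) • b = g i ^ k i • z' i - x • p (w i) := fun i => by
    refine sub_eq_zero.mp (htf (x ^ M) (pow_ne_zero M hx0) _ ?_)
    rw [smul_sub, ← hkey, hb, smul_comm, sub_self]
  obtain ⟨i, hi⟩ : ∃ i, g i ∉ Ideal.span {x} := by
    by_contra hcon
    push Not at hcon
    exact hxm (hg ▸ Ideal.span_le.mpr (by rintro _ ⟨i, rfl⟩; exact hcon i))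
  refine ⟨(1 : A₀) ⊗ₜ[A] b, ?_⟩
  set γ := algebraMap A A₀ (g i) with hγ
  have e1 : γ ^ (k i + n i) • ((1 : A₀) ⊗ₜ[A] b) = γ ^ k i • q (z i) := by
    have hqz : q (z i) = (1 : A₀) ⊗ₜ[A] z' i := by rw [← hz'', hqt]
    rw [hqz, hγ, ← map_pow, ← map_pow, algebraMap_smul, algebraMap_smul, ← TensorProduct.tmul_smul,
      ← TensorProduct.tmul_smul, hkey2, TensorProduct.tmul_sub, one_tmul_quotient_eq_zero.mpr ⟨_, rfl⟩, sub_zero]
  obtain ⟨k', hk''⟩ := hzc i
  rw [hqg, ← hγ, hc] at hk''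
  have e2 : γ ^ (k' + (k i + n i)) • (ι ((1 : A₀) ⊗ₜ[A] b) - c₀) = 0 := by
    have e3 := congrArg ι e1
    rw [map_smul, map_smul, Algebra.smul_def, Algebra.smul_def, map_pow, map_pow] at e3
    rw [Algebra.smul_def, map_pow]
    simp only [AlgHom.toRingHom_eq_coe, RingHom.coe_coe] at hk''
    linear_combination algebraMap A₀ C₀ γ ^ k' * e3 + algebraMap A₀ C₀ γ ^ k i * hk''
  exact sub_eq_zero.mp (htf0 _ (pow_ne_zero _ fun h0 => hi (Ideal.Quotient.eq_zero_iff_mem.mp h0)) _ e2)

omit [CommRing A] [IsRegularLocalRing A] in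
theorem etale_aux (d : ℕ) : ∀ (A : Type u) [CommRing A] [IsRegularLocalRing A], ringKrullDim A = (d + 2 : ℕ) →
    ∀ (B : Type u) [CommRing B] [Algebra A B] [Module.Finite A B],
    (∀ c : A, c ≠ 0 → ∀ z : B, c • z = 0 → z = 0) →
    (∀ c : A, c ≠ 0 → ∀ z : B, (∀ a ∈ maximalIdeal A, ∃ k : ℕ, ∃ w, a ^ k • z = c • w) →
      ∃ w, z = c • w) →
    (∀ a ∈ maximalIdeal A, a ≠ 0 →
      Algebra.Etale (Localization.Away a) (Localization.Away a ⊗[A] B)) →
    Algebra.Etale A B := by
  induction d with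
  | zero =>
    intro A _ _ hd B _ _ _ htf hC het
    haveI := RegLoc.isDomain A
    haveI := free_of_dim_two (A := A) (M := B) (by rw [hd]; rfl) htf hC
    exact etale_of_free (by rw [hd]; rfl) B het
  | succ d ih =>
    intro A _ _ hd B _ _ _ htf hC het
    haveI := RegLoc.isDomain A
    have h2 : (2 : WithBot ℕ∞) ≤ ringKrullDim A := by rw [hd]; exact_mod_cast (by omega : 2 ≤ d + 1 + 2)
    have h3 : (3 : WithBot ℕ∞) ≤ ringKrullDim A := by rw [hd]; exact_mod_cast (by omega : 3 ≤ d + 1 + 2)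
    have hμ := RegLoc.spanFinrank_eq_dim hd
    obtain ⟨x, hx, hx2⟩ := RegLoc.Homological.exists_mem_notMem_sq (R := A) fun h => by
      rw [h, Submodule.spanFinrank_bot] at hμ; omega
    obtain ⟨hreg, e, he, hed⟩ := RegLoc.isRegularLocalRing_quotient_span_singleton hx hx2 hd
    obtain rfl : e = d + 2 := by omega
    haveI := RegLoc.isDomain (A ⧸ Ideal.span {x})
    have hx0 : x ≠ 0 := fun h => hx2 (h ▸ zero_mem _)
    have hxm : ¬ maximalIdeal A ≤ Ideal.span {x} := fun hle => by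
      have hz : maximalIdeal (A ⧸ Ideal.span {x}) = ⊥ := by
        rw [RegLoc.maximalIdeal_quotient_eq_map, eq_bot_iff, Ideal.map_le_iff_le_comap]
        exact fun a ha => Ideal.Quotient.eq_zero_iff_mem.mpr (hle ha)
      rw [ringKrullDim_eq_zero_of_isField ((IsLocalRing.isField_iff_maximalIdeal_eq).mpr hz)] at he
      exact absurd he.symm (by exact_mod_cast (by omega : d + 2 ≠ 0))
    let A₀ := A ⧸ Ideal.span {x}
    let B₀ := A₀ ⊗[A] B
    -- `B₀` has no `𝔪`-torsion and is torsion-free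
    have hB₀ : ∀ z : B, (∀ a ∈ maximalIdeal A, ∃ k : ℕ, (1 : A₀) ⊗ₜ[A] (a ^ k • z) = 0) →
        (1 : A₀) ⊗ₜ[A] z = 0 := fun z hz => one_tmul_quotient_eq_zero.mpr <| hC x hx0 z fun a ha => by
      obtain ⟨k, hk⟩ := hz a ha
      obtain ⟨w, hw⟩ := one_tmul_quotient_eq_zero.mp hk
      exact ⟨k, w, hw⟩
    have hm₀ : maximalIdeal A₀ = (maximalIdeal A).map (algebraMap A A₀) := RegLoc.maximalIdeal_quotient_eq_map _
    have hlift : ∀ a₀ ∈ maximalIdeal A₀, ∃ a ∈ maximalIdeal A, algebraMap A A₀ a = a₀ := fun a₀ ha₀ =>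
      (Ideal.mem_map_iff_of_surjective _ Ideal.Quotient.mk_surjective).mp (hm₀ ▸ ha₀)
    have het₀ : ∀ a₀ ∈ maximalIdeal A₀, a₀ ≠ 0 →
        Algebra.Etale (Localization.Away a₀) (Localization.Away a₀ ⊗[A₀] B₀) := fun a₀ ha₀ h0 => by
      obtain ⟨a, ha, rfl⟩ := hlift a₀ ha₀
      have := het a ha fun h => h0 (by rw [h, map_zero])
      exact etale_quot_away x a
    have htf₀ : ∀ c : A₀, c ≠ 0 → ∀ z : B₀, c • z = 0 → z = 0 := fun c hc z hz => by
      obtain ⟨z', rfl⟩ : ∃ z' : B, (1 : A₀) ⊗ₜ[A] z' = z :=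
        (Algebra.TensorProduct.includeRight_surjective (S := A₀) B Ideal.Quotient.mk_surjective) z
      refine hB₀ z' fun a ha => ?_
      by_cases h0 : algebraMap A A₀ a = 0
      · exact ⟨1, by rw [pow_one, TensorProduct.tmul_smul, ← algebraMap_smul A₀ a, h0, zero_smul]⟩
      have := het₀ _ (hm₀ ▸ Ideal.mem_map_of_mem _ ha) h0
      let S := Localization.Away (algebraMap A A₀ a)
      haveI : Algebra.Etale S (S ⊗[A₀] B₀) := this
      haveI : Module.Flat S (S ⊗[A₀] B₀) := Algebra.Smooth.flat S (S ⊗[A₀] B₀)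
      haveI : IsDomain S := IsLocalization.isDomain_localization (powers_le_nonZeroDivisors_of_noZeroDivisors h0)
      have hcS : algebraMap A₀ S c ≠ 0 := fun h => hc
        (IsLocalization.injective S (powers_le_nonZeroDivisors_of_noZeroDivisors h0) (h.trans (map_zero _).symm))
      have hz1 : (1 : S) ⊗ₜ[A₀] ((1 : A₀) ⊗ₜ[A] z') = 0 := by
        have hreg : IsSMulRegular (S ⊗[A₀] B₀) (algebraMap A₀ S c) :=
          Module.Flat.isSMulRegular_of_nonZeroDivisors (M := S ⊗[A₀] B₀) (mem_nonZeroDivisors_of_ne_zero hcS)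
        refine hreg ?_
        dsimp only
        rw [smul_zero, algebraMap_smul, ← TensorProduct.tmul_smul, hz, TensorProduct.tmul_zero]
      obtain ⟨k, hk⟩ := exists_pow_smul_eq_zero _ hz1
      exact ⟨k, by rwa [← map_pow, algebraMap_smul, ← TensorProduct.tmul_smul] at hk⟩
    have hd₀ : (2 : WithBot ℕ∞) ≤ ringKrullDim A₀ := by rw [he]; exact_mod_cast (by omega : 2 ≤ d + 2)
    obtain ⟨C₀, _, _, ι, hι, _, htfC, hCC, hetC, hsat⟩ := exists_saturation hd₀ B₀ htf₀ het₀
    haveI : Algebra.Etale A₀ C₀ := ih A₀ he C₀ htfC hCC hetC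
    have hsurj := surjective_of_saturation h3 hx hx0 hxm B htf hC (het x hx hx0) htfC ι hι
      fun y a ha => hsat y _ (hm₀ ▸ Ideal.mem_map_of_mem _ ha)
    haveI : Algebra.Etale A₀ B₀ := Algebra.Etale.of_equiv (A := C₀) (AlgEquiv.ofBijective ι ⟨hι, hsurj⟩).symm
    haveI : Module.Free A₀ B₀ := Module.free_of_flat_of_isLocalRing
    have hregB : IsSMulRegular B x := fun p q h => sub_eq_zero.mp (htf x hx0 _ (by
      rw [smul_sub, show x • p = x • q from h, sub_self]))
    haveI : Module.Free A₀ (QuotSMulTop x B) := Module.Free.of_equiv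
      ((QuotSMulTop.equivQuotTensor x B).extendScalarsOfSurjective Ideal.Quotient.mk_surjective).symm
    haveI : Module.FinitePresentation A B := Module.finitePresentation_of_finite _ _
    haveI : Module.Free A B := (Module.free_quotSMulTop_iff_free A B
      (IsLocalRing.jacobson_eq_maximalIdeal (⊥ : Ideal A) bot_ne_top ▸ hx) hregB).mp inferInstance
    exact etale_of_free h2 B het

/-- **Purity of the branch locus**, algebraic form. -/
theorem etale_of_saturated (hd : (2 : WithBot ℕ∞) ≤ ringKrullDim A) (B : Type u) [CommRing B] [Algebra A B]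
    [Module.Finite A B] (htf : ∀ c : A, c ≠ 0 → ∀ z : B, c • z = 0 → z = 0)
    (hC : ∀ c : A, c ≠ 0 → ∀ z : B, (∀ a ∈ maximalIdeal A, ∃ k : ℕ, ∃ w, a ^ k • z = c • w) →
      ∃ w, z = c • w)
    (het : ∀ a ∈ maximalIdeal A, a ≠ 0 →
      Algebra.Etale (Localization.Away a) (Localization.Away a ⊗[A] B)) :
    Algebra.Etale A B := by
  obtain ⟨n, hn, -⟩ := RegLoc.exists_natCast_eq_ringKrullDim A
  have : 2 ≤ n := by rw [hn] at hd; exact_mod_cast hd
  obtain ⟨d, rfl⟩ : ∃ d, n = d + 2 := ⟨n - 2, by omega⟩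
  exact etale_aux d A hn B htf hC het

end Groth.Agent.PurityReg
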