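import Groth.Agent.S1185
import Groth.Agent.PurityReg.Main

/-!
# Sections of a finite étale cover of the punctured spectrum are saturated
-/

set_option autoImplicit false
set_option backward.isDefEq.respectTransparency.types false
set_option linter.style.haveILetI false
set_option maxHeartbeats 1600000

noncomputable section

universe u

open CategoryTheory CategoryTheory.Limits AlgebraicGeometry TopologicalSpace IsLocalRing TensorProduct Opposite

namespace Groth.Agent.PurityReg

variable {A : Type u} [CommRing A] [IsNoetherianRing A] [IsLocalRing A] [IsDomain A]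
  (V : FEt.Cat (FEt.puncturedSpec A : Scheme.{u}))
  (hP : IsPullback V.left.toSpecΓ V.hom (Spec.map (S1185.strMap V)) (FEt.puncturedSpec A).ι)

omit [IsNoetherianRing A] [IsDomain A] in
theorem exists_notMem (v : V.left) : ∃ a ∈ maximalIdeal A, a ∉ ((FEt.puncturedSpec A).ι (V.hom v)).asIdeal := by
  refine SetLike.not_le_iff_exists.mp fun hle => (V.hom v).2 ?_
  exact PrimeSpectrum.ext (le_antisymm (le_maximalIdeal ((FEt.puncturedSpec A).ι (V.hom v)).isPrime.ne_top) hle)

include hP in
omit [IsNoetherianRing A] in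
theorem sections_torsion_free :
    letI := (S1185.strMap V).hom.toAlgebra
    ∀ c : A, c ≠ 0 → ∀ z : Γ(V.left, ⊤), c • z = 0 → z = 0 := by
  letI := (S1185.strMap V).hom.toAlgebra
  intro c hc z hz
  refine TopCat.Presheaf.section_ext V.left.sheaf ⊤ z 0 fun v _ => ?_
  obtain ⟨a, ha, hav⟩ := exists_notMem V v
  have ha0 : a ≠ 0 := fun h => hav (h ▸ zero_mem _)
  obtain ⟨-, het, h3⟩ := S1185.finite_etale_away V hP a ha
  refine (h3 z ?_ v hav).trans (map_zero _).symm
  let S := Localization.Away a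
  haveI : IsDomain S := IsLocalization.isDomain_localization (powers_le_nonZeroDivisors_of_noZeroDivisors ha0)
  haveI : Algebra.Etale S (S ⊗[A] Γ(V.left, ⊤)) := het
  haveI : Module.Flat S (S ⊗[A] Γ(V.left, ⊤)) := Algebra.Smooth.flat S (S ⊗[A] Γ(V.left, ⊤))
  have hcS : algebraMap A S c ≠ 0 := fun h => hc
    (IsLocalization.injective S (powers_le_nonZeroDivisors_of_noZeroDivisors ha0) (h.trans (map_zero _).symm))
  have hreg : IsSMulRegular (S ⊗[A] Γ(V.left, ⊤)) (algebraMap A S c) :=
    Module.Flat.isSMulRegular_of_nonZeroDivisors (M := S ⊗[A] Γ(V.left, ⊤)) (mem_nonZeroDivisors_of_ne_zero hcS)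
  refine hreg ?_
  dsimp only
  rw [smul_zero, algebraMap_smul, ← TensorProduct.tmul_smul, hz, TensorProduct.tmul_zero]

include hP in
theorem sections_saturated :
    letI := (S1185.strMap V).hom.toAlgebra
    ∀ c : A, c ≠ 0 → ∀ z : Γ(V.left, ⊤),
      (∀ a ∈ maximalIdeal A, ∃ k : ℕ, ∃ w, a ^ k • z = c • w) → ∃ w, z = c • w := by
  letI := (S1185.strMap V).hom.toAlgebra
  intro c hc z h
  let Γt := Γ(V.left, ⊤)
  let φ := (S1185.strMap V).hom
  choose k w hw using fun a : {a : A // a ∈ maximalIdeal A} => h a.1 a.2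
  haveI : CompactSpace (FEt.puncturedSpec A) :=
    isCompact_iff_compactSpace.mp (NoetherianSpace.isCompact (α := Spec (CommRingCat.of A)) _)
  haveI : CompactSpace V.left := QuasiCompact.compactSpace_of_compactSpace (Y := (FEt.puncturedSpec A : Scheme.{u})) V.hom
  haveI : QuasiSeparatedSpace V.left := quasiSeparatedSpace_of_quasiSeparated (Y := (FEt.puncturedSpec A : Scheme.{u})) V.hom
  let O : {a : A // a ∈ maximalIdeal A} → V.left.Opens := fun a => V.left.basicOpen (φ a.1)
  have hcov : ∀ v : V.left, ∃ a, v ∈ O a := fun v => by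
    obtain ⟨a, ha, hav⟩ := exists_notMem V v
    refine ⟨⟨a, ha⟩, ?_⟩
    have e : V.left.toSpecΓ ≫ Spec.map (S1185.strMap V) = V.hom ≫ (FEt.puncturedSpec A).ι := hP.w
    have : (V.left.toSpecΓ ≫ Spec.map (S1185.strMap V)) v ∈ (PrimeSpectrum.basicOpen a : Opens (PrimeSpectrum A)) := by
      rw [e]; exact hav
    show v ∈ V.left.basicOpen (φ a)
    rw [← Scheme.toSpecΓ_preimage_basicOpen]
    exact this
  have hu : ∀ a, IsUnit (V.left.presheaf.map (homOfLE le_top : O a ⟶ ⊤).op (φ a.1)) := fun a =>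
    RingedSpace.isUnit_res_basicOpen _ _
  choose v hv using fun a => ((hu a).pow (k a)).exists_left_inv
  let t : ∀ a, Γ(V.left, O a) := fun a => V.left.presheaf.map (homOfLE le_top : O a ⟶ ⊤).op (w a) * v a
  have hct : ∀ a, V.left.presheaf.map (homOfLE le_top : O a ⟶ ⊤).op (φ c) * t a =
      V.left.presheaf.map (homOfLE le_top : O a ⟶ ⊤).op z := fun a => by
    have e := congrArg (V.left.presheaf.map (homOfLE le_top : O a ⟶ ⊤).op) (hw a)
    simp only [Algebra.smul_def, map_mul, map_pow] at e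
    change V.left.presheaf.map _ (φ a.1) ^ k a * _ = V.left.presheaf.map _ (φ c) * _ at e
    calc _ = (V.left.presheaf.map _ (φ c) * V.left.presheaf.map _ (w a)) * v a := by simp only [t]; ring
      _ = v a * V.left.presheaf.map _ (φ a.1) ^ k a * V.left.presheaf.map _ z := by rw [← e]; ring
      _ = _ := by rw [hv, one_mul]
  have hreg : ∀ a b : {a : A // a ∈ maximalIdeal A}, ∀ s : Γ(V.left, O a ⊓ O b),
      V.left.presheaf.map (homOfLE le_top : O a ⊓ O b ⟶ ⊤).op (φ c) * s = 0 → s = 0 := by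
    intro a b
    have e : O a ⊓ O b = V.left.basicOpen (φ (a.1 * b.1)) := by
      rw [map_mul, Scheme.basicOpen_mul]
    rw [e]
    haveI := isLocalization_basicOpen_of_qcqs (X := V.left) isCompact_univ isQuasiSeparated_univ (φ (a.1 * b.1))
    intro s hs
    obtain ⟨⟨s', ⟨_, m, rfl⟩⟩, hs'⟩ := IsLocalization.surj (Submonoid.powers (φ (a.1 * b.1))) s
    have h0 : algebraMap Γ(V.left, ⊤) Γ(V.left, V.left.basicOpen (φ (a.1 * b.1))) (φ c * s') = 0 :=
      (map_mul _ _ _).trans ((congrArg (_ * ·) hs'.symm).trans ((mul_assoc _ _ _).symm.trans (mul_eq_zero_of_left hs _)))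
    obtain ⟨⟨_, m', rfl⟩, hm'⟩ :=
      (IsLocalization.map_eq_zero_iff (Submonoid.powers (φ (a.1 * b.1))) _ _).mp h0
    have h1 : φ (a.1 * b.1) ^ m' * s' = 0 := sections_torsion_free V hP c hc _ (by
      rw [Algebra.smul_def, RingHom.algebraMap_toAlgebra]
      linear_combination hm')
    have h2 : algebraMap Γ(V.left, ⊤) Γ(V.left, V.left.basicOpen (φ (a.1 * b.1))) s' = 0 :=
      (IsLocalization.map_eq_zero_iff (Submonoid.powers (φ (a.1 * b.1))) _ _).mpr ⟨⟨_, m', rfl⟩, h1⟩
    rw [h2] at hs'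
    exact (IsLocalization.map_units _ (⟨_, m, rfl⟩ : Submonoid.powers (φ (a.1 * b.1)))).mul_left_eq_zero.mp hs'
  have hcompat : TopCat.Presheaf.IsCompatible V.left.presheaf O t := fun a b => by
    refine sub_eq_zero.mp (hreg a b _ ?_)
    have e1 := congrArg (V.left.presheaf.map (TopologicalSpace.Opens.infLELeft (O a) (O b)).op) (hct a)
    have e2 := congrArg (V.left.presheaf.map (TopologicalSpace.Opens.infLERight (O a) (O b)).op) (hct b)
    rw [map_mul] at e1 e2
    simp only [← CommRingCat.comp_apply, ← Functor.map_comp, ← op_comp] at e1 e2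
    rw [mul_sub]
    exact sub_eq_zero.mpr (e1.trans e2.symm)
  obtain ⟨s, hs, -⟩ := V.left.sheaf.existsUnique_gluing' O ⊤ (fun a => homOfLE le_top)
    (fun v _ => Opens.mem_iSup.mpr (hcov v)) t hcompat
  let s₀ : Γ(V.left, ⊤) := s
  refine ⟨s₀, V.left.sheaf.eq_of_locally_eq' O ⊤ (fun a => homOfLE le_top)
    (fun v _ => Opens.mem_iSup.mpr (hcov v)) _ _ fun a => ?_⟩
  change V.left.presheaf.map _ z = V.left.presheaf.map _ (c • s₀)
  rw [Algebra.smul_def, RingHom.algebraMap_toAlgebra, map_mul]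
  exact (hct a).symm.trans (congrArg _ (hs a).symm)

end Groth.Agent.PurityReg
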