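import Groth.Agent.FEtCat.Extend
import Groth.Agent.FEtCat.Basic
import Groth.Agent.FlatMor.GenericPts
import Groth.Agent.EtNormal.Basic
import Groth.Agent.S0247
import Groth.Agent.RegLoc.Basic
import Mathlib.AlgebraicGeometry.Normalization
import Mathlib.RingTheory.Ideal.AssociatedPrime.Finiteness

/-!
# Extending finite étale covers over regular points (Zariski–Nagata, global form)

* `exists_extension_noetherian`: Noetherian base, regular stalks off `U`, extension in codimension one.
* `exists_eq_of_isIntegral`: integral sections extend over normal points of positive dimension.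
* `isIso_normalizationDesc`: such an extension is the relative normalization.
-/

set_option autoImplicit false
universe u

open AlgebraicGeometry CategoryTheory CategoryTheory.Limits TopologicalSpace

namespace Groth.Agent.PurityReg

set_option backward.isDefEq.respectTransparency.types false
set_option linter.style.haveILetI false
set_option maxHeartbeats 800000

noncomputable section

theorem exists_maximal_point {X : Type*} [TopologicalSpace X] [QuasiSober X] [T0Space X] {C : Set X}
    (hC : IsClosed C) (hne : C.Nonempty) : ∃ η ∈ C, ∀ z ∈ C, z ⤳ η → z = η := by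
  haveI : QuasiSober C := hC.isClosedEmbedding_subtypeVal.quasiSober
  obtain ⟨x, hx⟩ := hne
  obtain ⟨η, hη⟩ := QuasiSober.sober (S := irreducibleComponent (⟨x, hx⟩ : C)) isIrreducible_irreducibleComponent
    isClosed_irreducibleComponent
  refine ⟨η.1, η.2, fun z hzC hz => ?_⟩
  have hz' : (⟨z, hzC⟩ : C) ⤳ η := subtype_specializes_iff _ _ |>.mpr hz
  have hsub : irreducibleComponent (⟨x, hx⟩ : C) ⊆ closure {(⟨z, hzC⟩ : C)} := by
    rw [← hη.def]
    exact closure_minimal (Set.singleton_subset_iff.mpr hz'.mem_closure) isClosed_closure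
  have he := eq_irreducibleComponent (isPreirreducible_singleton.closure) hsub
  have h1 : η ⤳ (⟨z, hzC⟩ : C) := specializes_iff_mem_closure.mpr
    (by rw [hη.def]; exact he ▸ subset_closure rfl)
  exact congrArg Subtype.val (hz'.antisymm h1).eq

theorem one_le_ringKrullDim_of_not_mem {X : Scheme.{u}} [IsLocallyNoetherian X] {U : X.Opens}
    (hU : Dense (U : Set X)) {x : X} (hx : x ∉ U) : 1 ≤ ringKrullDim (X.presheaf.stalk x) := by
  by_contra h
  have h0 : ringKrullDim (X.presheaf.stalk x) < 1 := not_le.mp h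
  haveI : Ring.KrullDimLE 0 (X.presheaf.stalk x) :=
    Ring.krullDimLE_iff.mpr (Order.le_of_lt_succ (by exact_mod_cast h0))
  refine hx (FlatMor.GenericPts.mem_of_dense hU ((FlatMor.GenericPts.closure_mem_irreducibleComponents_iff x).mpr fun z hz => ?_))
  obtain ⟨y, hy⟩ := (Scheme.range_fromSpecStalk (x := x)).ge hz
  have hy' : y = IsLocalRing.closedPoint (X.presheaf.stalk x) :=
    PrimeSpectrum.ext (IsLocalRing.eq_maximalIdeal y.2.isMaximal')
  rw [hy', Scheme.fromSpecStalk_closedPoint] at hy
  rw [hy]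

theorem exists_extension_noetherian {X : Scheme.{u}} [IsNoetherian X] (U : X.Opens) (hU : Dense (U : Set X))
    (Y : FEt.Cat (U : Scheme.{u}))
    (hreg : ∀ x : X, x ∉ U → IsRegularLocalRing (X.presheaf.stalk x))
    (hunr : ∀ ξ : X, ξ ∉ U → ringKrullDim (X.presheaf.stalk ξ) = 1 →
      ∃ Yξ : FEt.Cat (Spec (X.presheaf.stalk ξ)),
        Nonempty ((FEt.restrict (pullback.snd U.ι (X.fromSpecStalk ξ))).obj Yξ ≅
          (FEt.restrict (pullback.fst U.ι (X.fromSpecStalk ξ))).obj Y)) :
    ∃ E : FEt.Cat X, Nonempty ((FEt.restrict U.ι).obj E ≅ Y) := by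
  let P : X.Opens → Prop := fun W => ∃ h : U ≤ W, ∃ E : FEt.Cat (W : Scheme.{u}),
    Nonempty ((FEt.restrict (X.homOfLE h)).obj E ≅ Y)
  have hP0 : P U := ⟨le_rfl, Y, ⟨by
    haveI : IsIso (X.homOfLE (le_rfl : U ≤ U)) := by rw [Scheme.homOfLE_rfl]; infer_instance
    have hf : IsIso (pullback.fst Y.hom (X.homOfLE (le_rfl : U ≤ U))) :=
      (MorphismProperty.isomorphisms Scheme.{u}).pullback_fst _ _ ‹IsIso (X.homOfLE (le_rfl : U ≤ U))›
    exact MorphismProperty.Over.isoMk (@asIso _ _ _ _ (pullback.fst Y.hom (X.homOfLE (le_rfl : U ≤ U))) hf) (by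
      refine (pullback.condition (f := Y.hom)).trans ?_
      rw [Scheme.homOfLE_rfl]
      exact Category.comp_id _)⟩⟩
  obtain ⟨W, ⟨hUW, YW, ⟨eY⟩⟩, hmax⟩ := (wellFounded_gt (α := X.Opens)).has_min {W | P W} ⟨U, hP0⟩
  have hW : W = ⊤ := by
    by_contra hW
    obtain ⟨x, hxW, hxmax⟩ := exists_maximal_point (C := (W : Set X)ᶜ) W.2.isClosed_compl
      (Set.nonempty_compl.mpr fun e => hW (Opens.ext e))
    have hxU : x ∉ U := fun h => hxW (hUW h)
    haveI := hreg x hxU
    let j := X.fromSpecStalk x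
    have hP : j ⁻¹ᵁ W = FEt.puncturedSpec (X.presheaf.stalk x) := by
      ext y
      show j y ∈ W ↔ y ≠ IsLocalRing.closedPoint (X.presheaf.stalk x)
      refine ⟨fun hy e => hxW ?_, fun hy => ?_⟩
      · rw [e, Scheme.fromSpecStalk_closedPoint] at hy
        exact hy
      · by_contra hyW
        have hs : j y ⤳ x := (Scheme.range_fromSpecStalk (x := x)).le ⟨y, rfl⟩
        exact hy (j.isEmbedding.injective ((hxmax _ hyW hs).trans Scheme.fromSpecStalk_closedPoint.symm))
    let q : (FEt.puncturedSpec (X.presheaf.stalk x) : Scheme.{u}) ⟶ W :=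
      IsOpenImmersion.lift W.ι ((FEt.puncturedSpec (X.presheaf.stalk x)).ι ≫ j) (by
        rw [Scheme.Opens.range_ι]
        rintro _ ⟨y, rfl⟩
        rw [Scheme.Hom.comp_apply]
        exact hP.ge y.2)
    have hqfac : q ≫ W.ι = (FEt.puncturedSpec (X.presheaf.stalk x)).ι ≫ j := IsOpenImmersion.lift_fac _ _ _
    obtain ⟨E, ⟨eE⟩⟩ : ∃ E : FEt.Cat (Spec (X.presheaf.stalk x)),
        Nonempty ((FEt.restrict (FEt.puncturedSpec (X.presheaf.stalk x)).ι).obj E ≅ (FEt.restrict q).obj YW) := by
      by_cases hd : (2 : WithBot ℕ∞) ≤ ringKrullDim (X.presheaf.stalk x)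
      · haveI : (FEt.restrict (FEt.puncturedSpec (X.presheaf.stalk x)).ι).EssSurj :=
          Groth.Agent.S0247.result (X.presheaf.stalk x) hd
        exact Functor.EssSurj.mem_essImage (F := FEt.restrict (FEt.puncturedSpec (X.presheaf.stalk x)).ι)
          ((FEt.restrict q).obj YW)
      · have hd1 : ringKrullDim (X.presheaf.stalk x) = 1 := by
          refine le_antisymm ?_ (one_le_ringKrullDim_of_not_mem hU hxU)
          rw [not_le] at hd
          exact Order.le_of_lt_succ (by exact_mod_cast hd)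
        haveI := RegLoc.isDomain (X.presheaf.stalk x)
        haveI : Ring.KrullDimLE 1 (X.presheaf.stalk x) := Ring.krullDimLE_iff.mpr hd1.le
        -- the punctured spectrum maps to generic points of `X`
        have hgen : ∀ y : FEt.puncturedSpec (X.presheaf.stalk x), j y.1 ∈ U := fun y => by
          refine FlatMor.GenericPts.mem_of_dense hU ((FlatMor.GenericPts.closure_mem_irreducibleComponents_iff _).mpr fun z hz => ?_)
          have hs : j y.1 ⤳ x := (Scheme.range_fromSpecStalk (x := x)).le ⟨y.1, rfl⟩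
          obtain ⟨w, hw⟩ := (Scheme.range_fromSpecStalk (x := x)).ge (hz.trans hs)
          rw [← hw] at hz ⊢
          have hwy : w ⤳ y.1 := j.isEmbedding.isInducing.specializes_iff.mp hz
          have hy0 : (y.1 : PrimeSpectrum (X.presheaf.stalk x)).asIdeal = ⊥ := by
            by_contra h0
            haveI : NoZeroDivisors (X.presheaf.stalk x) := inferInstance
            exact y.2 (PrimeSpectrum.ext (IsLocalRing.eq_maximalIdeal (y.1.2.isMaximal_of_ne_bot h0)))
          have : w = y.1 := PrimeSpectrum.ext (le_antisymm ((PrimeSpectrum.le_iff_specializes _ _).mpr hwy) (hy0 ▸ bot_le))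
          rw [this]
        let q' : (FEt.puncturedSpec (X.presheaf.stalk x) : Scheme.{u}) ⟶ U :=
          IsOpenImmersion.lift U.ι ((FEt.puncturedSpec (X.presheaf.stalk x)).ι ≫ j) (by
            rw [Scheme.Opens.range_ι]
            rintro _ ⟨y, rfl⟩
            rw [Scheme.Hom.comp_apply]
            exact hgen y)
        have hq'fac : q' ≫ U.ι = (FEt.puncturedSpec (X.presheaf.stalk x)).ι ≫ j := IsOpenImmersion.lift_fac _ _ _
        have hq'q : q' ≫ X.homOfLE hUW = q := by
          rw [← cancel_mono W.ι, Category.assoc, X.homOfLE_ι, hq'fac, hqfac]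
        obtain ⟨Yξ, ⟨eξ⟩⟩ := hunr x hxU hd1
        let m := pullback.lift (f := U.ι) (g := j) q' (FEt.puncturedSpec (X.presheaf.stalk x)).ι hq'fac
        refine ⟨Yξ, ⟨?_⟩⟩
        exact (MorphismProperty.Over.pullbackComp m (pullback.snd U.ι j) _ (pullback.lift_snd _ _ _).symm).app Yξ ≪≫
          (FEt.restrict m).mapIso eξ ≪≫
          ((MorphismProperty.Over.pullbackComp m (pullback.fst U.ι j) q' (pullback.lift_fst _ _ _).symm).app Y).symm ≪≫
          (FEt.restrict q').mapIso eY.symm ≪≫
          ((MorphismProperty.Over.pullbackComp q' (X.homOfLE hUW) q hq'q.symm).app YW).symm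
    obtain ⟨W', hWW', hxW', Y', ⟨eY'⟩⟩ := FEtCat.Extend.exists_extend W YW x _ hP q hqfac E eE
    refine hmax W' ⟨hUW.trans hWW', Y', ⟨?_⟩⟩ (lt_of_le_not_ge hWW' fun h' => hxW (h' hxW'))
    exact (MorphismProperty.Over.pullbackComp (X.homOfLE hUW) (X.homOfLE hWW') (X.homOfLE (hUW.trans hWW'))
      (X.homOfLE_homOfLE hUW hWW').symm).app Y' ≪≫ (FEt.restrict (X.homOfLE hUW)).mapIso eY' ≪≫ eY
  subst hW
  refine ⟨(FEt.restrict X.topIso.inv).obj YW, ⟨?_⟩⟩
  exact ((MorphismProperty.Over.pullbackComp U.ι X.topIso.inv (X.homOfLE hUW) (by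
    rw [← cancel_mono X.topIso.hom, Category.assoc, Iso.inv_hom_id, Category.comp_id]
    exact X.homOfLE_ι hUW)).app YW).symm ≪≫ eY

/-- An extension with a chosen open immersion. -/
theorem exists_openImmersion_of_restrict_iso {X : Scheme.{u}} (U : X.Opens) {Y : FEt.Cat (U : Scheme.{u})}
    {E : FEt.Cat X} (e : (FEt.restrict U.ι).obj E ≅ Y) :
    ∃ h : Y.left ⟶ E.left, IsOpenImmersion h ∧ h ≫ E.hom = Y.hom ≫ U.ι ∧
      ∀ y : E.left, y ∈ Set.range h ↔ E.hom y ∈ U := by
  haveI : IsIso e.inv.left := FEtCat.Basic.isIso_left e.inv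
  haveI : IsOpenImmersion (pullback.fst E.hom U.ι) :=
    MorphismProperty.pullback_fst E.hom U.ι (inferInstanceAs (IsOpenImmersion U.ι))
  refine ⟨e.inv.left ≫ pullback.fst E.hom U.ι, MorphismProperty.comp_mem @IsOpenImmersion e.inv.left (pullback.fst E.hom U.ι) inferInstance
    (MorphismProperty.pullback_fst E.hom U.ι (inferInstanceAs (IsOpenImmersion U.ι))), ?_, fun y => ?_⟩
  · exact (Category.assoc _ _ _).trans ((congrArg (e.inv.left ≫ ·) pullback.condition).trans
      ((Category.assoc _ _ _).symm.trans (congrArg (· ≫ U.ι) (MorphismProperty.Over.w e.inv))))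
  · rw [show Set.range (e.inv.left ≫ pullback.fst E.hom U.ι) = Set.range (pullback.fst E.hom U.ι) from by
      have hs : Function.Surjective e.inv.left := e.inv.left.homeomorph.surjective
      ext z
      refine ⟨fun ⟨w, hw⟩ => ⟨e.inv.left w, hw⟩, fun ⟨w, hw⟩ => ?_⟩
      obtain ⟨w', rfl⟩ := hs w
      exact ⟨w', hw⟩]
    rw [Scheme.Pullback.range_fst, Scheme.Opens.range_ι]
    rfl

/-- Sections over an open which are integral over the global sections extend, when all points outside
the open are normal of positive dimension. -/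
theorem exists_eq_of_isIntegral {E : Scheme.{u}} [IsAffine E] [IsLocallyNoetherian E] (D : E.Opens)
    (hn : ∀ e : E, e ∉ D → (IsDomain (E.presheaf.stalk e) ∧ IsIntegrallyClosed (E.presheaf.stalk e)) ∧
      1 ≤ ringKrullDim (E.presheaf.stalk e)) :
    Function.Injective (E.presheaf.map (homOfLE (le_top : D ≤ ⊤)).op).hom ∧
    ∀ s : Γ(E, D), (E.presheaf.map (homOfLE (le_top : D ≤ ⊤)).op).hom.IsIntegralElem s →
      ∃ r, (E.presheaf.map (homOfLE (le_top : D ≤ ⊤)).op).hom r = s := by
  classical
  let R := Γ(E, ⊤)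
  have hT := isAffineOpen_top E
  haveI : IsNoetherianRing R := IsLocallyNoetherian.component_noetherian ⟨⊤, hT⟩
  -- the stalks as localizations
  let stalkAlg : ∀ e : E, Algebra R (E.presheaf.stalk e) := fun e => TopCat.Presheaf.algebra_section_stalk E.presheaf (⟨e, trivial⟩ : (⊤ : E.Opens))
  have hloc : ∀ e : E, letI := stalkAlg e
      IsLocalization.AtPrime (E.presheaf.stalk e) (hT.primeIdealOf ⟨e, trivial⟩).asIdeal := fun e =>
    hT.isLocalization_stalk ⟨e, trivial⟩
  -- associated primes lie in `D`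
  have hass : ∀ p ∈ associatedPrimes R R, ∀ e : E, (hT.primeIdealOf ⟨e, trivial⟩).asIdeal = p → e ∈ D := by
    intro p hp e he
    by_contra heD
    obtain ⟨⟨hdom, -⟩, hdim⟩ := hn e heD
    letI := stalkAlg e
    haveI := hloc e
    haveI := hdom
    obtain ⟨hpp, a, ha⟩ := hp
    have ha0 : algebraMap R (E.presheaf.stalk e) a ≠ 0 := fun h0 => by
      obtain ⟨⟨u, hu⟩, hua⟩ := (IsLocalization.map_eq_zero_iff (hT.primeIdealOf ⟨e, trivial⟩).asIdeal.primeCompl _ a).mp h0
      apply hu
      show u ∈ (hT.primeIdealOf ⟨e, trivial⟩).asIdeal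
      rw [he, ha]
      refine Ideal.le_radical ?_
      simpa [Submodule.mem_colon_singleton] using hua
    have hmax : IsLocalRing.maximalIdeal (E.presheaf.stalk e) ≤ ⊥ := by
      rw [← IsLocalization.AtPrime.map_eq_maximalIdeal (hT.primeIdealOf ⟨e, trivial⟩).asIdeal (E.presheaf.stalk e),
        Ideal.map_le_iff_le_comap]
      intro z hz
      rw [he, ha] at hz
      obtain ⟨n, hn⟩ := hz
      have h1 : z ^ n * a = 0 := by simpa [Submodule.mem_colon_singleton] using hn
      have h2 := congrArg (algebraMap R (E.presheaf.stalk e)) h1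
      rw [map_mul, map_pow, map_zero] at h2
      exact eq_zero_of_pow_eq_zero ((mul_eq_zero.mp h2).resolve_right ha0)
    have hf : IsField (E.presheaf.stalk e) :=
      IsLocalRing.isField_iff_maximalIdeal_eq.mpr (le_bot_iff.mp hmax)
    rw [ringKrullDim_eq_zero_of_isField hf] at hdim
    exact absurd hdim (by norm_num)
  -- a nonzerodivisor `f` with `D(f) ⊆ D`
  obtain ⟨f, hfD, hf⟩ : ∃ f : R, E.basicOpen f ≤ D ∧ f ∈ nonZeroDivisors R := by
    let I : Ideal R := PrimeSpectrum.vanishingIdeal (hT.fromSpec ⁻¹' (D : Set E)ᶜ)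
    have hI : ∀ p ∈ associatedPrimes R R, ¬ I ≤ p := fun p hp hIp => by
      haveI := hp.1
      let z : PrimeSpectrum R := ⟨p, hp.1⟩
      have hz : z ∈ PrimeSpectrum.zeroLocus (I : Set R) := hIp
      have hc : IsClosed (hT.fromSpec ⁻¹' (D : Set E)ᶜ) := D.2.isClosed_compl.preimage hT.fromSpec.continuous
      rw [PrimeSpectrum.zeroLocus_vanishingIdeal_eq_closure] at hz
      replace hz := hc.closure_subset hz
      refine hz (hass p hp _ ?_)
      have h := hT.fromSpec.isOpenEmbedding.injective
        ((hT.fromSpec_primeIdealOf ⟨hT.fromSpec z, trivial⟩) : hT.fromSpec _ = hT.fromSpec z)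
      rw [h]
    obtain ⟨f, hfI, hf⟩ : ∃ f ∈ I, ∀ p ∈ associatedPrimes R R, f ∉ p := by
      by_contra! H
      have hsub : (I : Set R) ⊆ ⋃ p ∈ associatedPrimes R R, (p : Set R) := fun x hx => by
        obtain ⟨p, hp, hxp⟩ := H x hx
        exact Set.mem_biUnion hp hxp
      obtain ⟨p, hp, hIp⟩ := (Ideal.subset_union_prime_finite (associatedPrimes.finite R R) ⊥ ⊥
        (fun p hp _ _ => hp.1)).mp hsub
      exact hI p hp hIp
    refine ⟨f, fun e he => ?_, ?_⟩
    · by_contra heD
      have h1 : hT.primeIdealOf ⟨e, trivial⟩ ∈ hT.fromSpec ⁻¹' (D : Set E)ᶜ := by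
        show hT.fromSpec _ ∉ D
        rw [hT.fromSpec_primeIdealOf]
        exact heD
      have h2 : f ∈ (hT.primeIdealOf ⟨e, trivial⟩).asIdeal := (PrimeSpectrum.mem_vanishingIdeal _ _).mp hfI _ h1
      have h3 : hT.primeIdealOf ⟨e, trivial⟩ ∈ hT.fromSpec ⁻¹ᵁ E.basicOpen f := by
        show hT.fromSpec _ ∈ E.basicOpen f
        rw [hT.fromSpec_primeIdealOf]
        exact he
      rw [hT.fromSpec_preimage_basicOpen] at h3
      exact h3 h2
    · by_contra hnz
      have hmem : f ∈ (nonZeroDivisors R : Set R)ᶜ := hnz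
      rw [← biUnion_associatedPrimes_eq_compl_nonZeroDivisors] at hmem
      obtain ⟨p, hp, hfp⟩ := Set.mem_iUnion₂.mp hmem
      exact hf p hp hfp
  -- injectivity to `D(f)`
  have hzero : ∀ d : Γ(E, D), (E.presheaf.map (homOfLE hfD).op).hom d = 0 → d = 0 := by
    intro d hd
    refine E.sheaf.eq_of_locally_eq' (fun g : {g : R // E.basicOpen g ≤ D} => E.basicOpen g.1) D
      (fun g => homOfLE g.2) (fun e he => ?_) d 0 fun ⟨g, hg⟩ => ?_
    · obtain ⟨g, hgD, heg⟩ := hT.exists_basicOpen_le ⟨e, he⟩ trivial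
      exact Opens.mem_iSup.mpr ⟨⟨g, hgD⟩, heg⟩
    rw [map_zero]
    let d' := (E.presheaf.map (homOfLE hg).op).hom d
    show d' = 0
    haveI := hT.isLocalization_basicOpen g
    haveI := hT.isLocalization_basicOpen f
    obtain ⟨⟨b, ⟨_, k, rfl⟩⟩, hb⟩ := IsLocalization.surj (Submonoid.powers g) d'
    have hcomm : ∀ (V : E.Opens) (hV : E.basicOpen g ⊓ E.basicOpen f ≤ V) (z : R),
        (E.presheaf.map (homOfLE hV).op).hom ((E.presheaf.map (homOfLE (le_top : V ≤ ⊤)).op).hom z) =
        (E.presheaf.map (homOfLE (le_top : E.basicOpen g ⊓ E.basicOpen f ≤ ⊤)).op).hom z := fun V hV z => by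
      rw [← CommRingCat.comp_apply, ← E.presheaf.map_comp]; rfl
    have hd0 : (E.presheaf.map (homOfLE (inf_le_left : E.basicOpen g ⊓ E.basicOpen f ≤ E.basicOpen g)).op).hom d' = 0 := by
      have h1 := congrArg (E.presheaf.map (homOfLE (inf_le_right : E.basicOpen g ⊓ E.basicOpen f ≤ E.basicOpen f)).op).hom hd
      rw [map_zero, ← CommRingCat.comp_apply, ← E.presheaf.map_comp] at h1
      show (E.presheaf.map _).hom ((E.presheaf.map (homOfLE hg).op).hom d) = 0
      rw [← CommRingCat.comp_apply, ← E.presheaf.map_comp]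
      exact h1
    have hb0 : (E.presheaf.map (homOfLE (le_top : E.basicOpen (g * f) ≤ ⊤)).op).hom b = 0 := by
      have h1 := congrArg (E.presheaf.map (homOfLE (inf_le_left : E.basicOpen g ⊓ E.basicOpen f ≤ E.basicOpen g)).op).hom hb
      rw [map_mul, hd0, zero_mul, RingHom.algebraMap_toAlgebra] at h1
      have h2 := (hcomm _ inf_le_left b).symm.trans h1.symm
      have h3 := congrArg (E.presheaf.map (homOfLE (E.basicOpen_mul g f).le).op).hom h2
      rw [map_zero, ← CommRingCat.comp_apply, ← E.presheaf.map_comp] at h3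
      exact h3
    haveI := hT.isLocalization_basicOpen (g * f)
    obtain ⟨⟨_, l, rfl⟩, hl⟩ := (IsLocalization.map_eq_zero_iff (Submonoid.powers (g * f)) Γ(E, E.basicOpen (g * f)) b).mp hb0
    have hgb : g ^ l * b = 0 := by
      refine (mem_nonZeroDivisors_iff.mp (pow_mem hf l)).1 _ ?_
      simpa [mul_pow, mul_comm, mul_assoc, mul_left_comm] using hl
    have hbz : algebraMap R Γ(E, E.basicOpen g) b = 0 :=
      (IsLocalization.map_eq_zero_iff (Submonoid.powers g) _ b).mpr ⟨⟨g ^ l, l, rfl⟩, hgb⟩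
    rw [hbz] at hb
    exact (IsLocalization.map_units Γ(E, E.basicOpen g) (⟨g ^ k, k, rfl⟩ : Submonoid.powers g)).mul_left_eq_zero.mp hb
  refine ⟨?_, fun s hs => ?_⟩
  · rw [injective_iff_map_eq_zero]
    intro r hr
    haveI := hT.isLocalization_basicOpen f
    have h1 := congrArg (E.presheaf.map (homOfLE hfD).op).hom hr
    rw [map_zero, ← CommRingCat.comp_apply, ← E.presheaf.map_comp] at h1
    exact IsLocalization.injective Γ(E, E.basicOpen f) (Submonoid.powers_le.mpr hf)
      (h1.trans (map_zero (algebraMap R Γ(E, E.basicOpen f))).symm)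
  haveI := hT.isLocalization_basicOpen f
  let s' := (E.presheaf.map (homOfLE hfD).op).hom s
  obtain ⟨⟨a, ⟨_, n, rfl⟩⟩, ha⟩ := IsLocalization.surj (Submonoid.powers f) s'
  let res := (E.presheaf.map (homOfLE (le_top : D ≤ ⊤)).op).hom
  have hfs : res (f ^ n) * s = res a := by
    rw [← sub_eq_zero]
    refine hzero _ ?_
    rw [map_sub, map_mul, sub_eq_zero]
    simp only [res, ← CommRingCat.comp_apply, ← E.presheaf.map_comp]
    rw [mul_comm]
    exact ha
  suffices h : ∃ r, a = f ^ n * r by
    obtain ⟨r, rfl⟩ := h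
    refine ⟨r, sub_eq_zero.mp (hzero _ ?_)⟩
    have hu := IsLocalization.map_units Γ(E, E.basicOpen f) (⟨f ^ n, n, rfl⟩ : Submonoid.powers f)
    rw [map_sub, sub_eq_zero, ← CommRingCat.comp_apply, ← E.presheaf.map_comp]
    refine hu.mul_left_cancel ?_
    rw [mul_comm _ s']
    refine Eq.trans ?_ ha.symm
    rw [map_mul]
    rfl
  let J : Ideal R := Submodule.comap (LinearMap.toSpanSingleton R R a) (Ideal.span {f ^ n})
  have hJ : ∀ t, t ∈ J ↔ ∃ w, w * f ^ n = t * a := fun t => by
    simp only [J, Submodule.mem_comap, LinearMap.toSpanSingleton_apply, smul_eq_mul, Ideal.mem_span_singleton']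
  suffices (1 : R) ∈ J by
    obtain ⟨w, hw⟩ := (hJ 1).mp this
    exact ⟨w, by rw [mul_comm, hw, one_mul]⟩
  rw [← Ideal.eq_top_iff_one]
  by_contra hJtop
  obtain ⟨Q, hQ, hJQ⟩ := Ideal.exists_le_maximal J hJtop
  let e := hT.fromSpec ⟨Q, hQ.isPrime⟩
  have hQe : (hT.primeIdealOf ⟨e, trivial⟩).asIdeal = Q :=
    congrArg PrimeSpectrum.asIdeal (hT.fromSpec.isOpenEmbedding.injective
      ((hT.fromSpec_primeIdealOf ⟨e, trivial⟩) : hT.fromSpec _ = hT.fromSpec ⟨Q, hQ.isPrime⟩))
  letI := stalkAlg e
  haveI := hloc e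
  let St := E.presheaf.stalk e
  suffices ∃ σ : St, algebraMap R St (f ^ n) * σ = algebraMap R St a by
    obtain ⟨σ, hσ⟩ := this
    obtain ⟨⟨b, ⟨t, ht⟩⟩, hbt⟩ := IsLocalization.surj (hT.primeIdealOf ⟨e, trivial⟩).asIdeal.primeCompl σ
    have h1 : algebraMap R St (b * f ^ n) = algebraMap R St (t * a) := by
      rw [map_mul, map_mul, ← hbt, ← hσ]
      ring
    obtain ⟨⟨u, hu⟩, huv⟩ := (IsLocalization.eq_iff_exists (hT.primeIdealOf ⟨e, trivial⟩).asIdeal.primeCompl _).mp h1
    have hut : u * t ∈ J := (hJ _).mpr ⟨u * b, by simpa [mul_assoc] using huv⟩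
    exact (Ideal.IsPrime.mem_or_mem inferInstance (hQe.symm ▸ hJQ hut)).elim hu ht
  by_cases he : e ∈ D
  · refine ⟨(E.presheaf.germ D e he).hom s, ?_⟩
    have h1 := congrArg (E.presheaf.germ D e he).hom hfs
    rw [map_mul] at h1
    simp only [res, TopCat.Presheaf.germ_res_apply] at h1
    exact h1
  · obtain ⟨⟨hdom, hint⟩, -⟩ := hn e he
    haveI := hdom
    haveI := hint
    let K := FractionRing St
    let φ : R →+* K := (algebraMap St K).comp (algebraMap R St)
    by_cases hfz : algebraMap R St f = 0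
    · exfalso
      obtain ⟨⟨u, hu⟩, huf⟩ := (IsLocalization.map_eq_zero_iff (hT.primeIdealOf ⟨e, trivial⟩).asIdeal.primeCompl St f).mp hfz
      apply hu
      rw [show u = 0 from (mem_nonZeroDivisors_iff.mp hf).2 u huf]
      exact Ideal.zero_mem _
    have hfu : IsUnit (φ f) := ((map_ne_zero_iff _ (IsFractionRing.injective St K)).mpr hfz).isUnit
    let ψ : Γ(E, E.basicOpen f) →+* K := IsLocalization.Away.lift f hfu
    have hψ : ∀ r, ψ (algebraMap R _ r) = φ r := fun r => IsLocalization.Away.lift_eq f hfu r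
    have hint' : IsIntegral St (ψ s') := by
      obtain ⟨p, hp, hps⟩ := hs
      refine ⟨p.map (algebraMap R St), hp.map _, ?_⟩
      rw [Polynomial.eval₂_map]
      have h1 := congrArg (ψ.comp (E.presheaf.map (homOfLE hfD).op).hom) hps
      rw [Polynomial.hom_eval₂, map_zero] at h1
      have heq : (algebraMap St K).comp (algebraMap R St) =
          (ψ.comp (E.presheaf.map (homOfLE hfD).op).hom).comp (E.presheaf.map (homOfLE (le_top : D ≤ ⊤)).op).hom := by
        refine RingHom.ext fun r => ?_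
        refine (hψ r).symm.trans ?_
        simp only [RingHom.comp_apply, ← CommRingCat.comp_apply, ← E.presheaf.map_comp]
        rfl
      rw [heq]
      exact h1
    obtain ⟨σ, hσ⟩ := IsIntegrallyClosed.isIntegral_iff.mp hint'
    refine ⟨σ, IsFractionRing.injective St K ?_⟩
    rw [map_mul, hσ]
    have h1 := congrArg ψ ha
    rw [map_mul, hψ, hψ] at h1
    rw [mul_comm]
    exact h1

/-- An extension is the relative normalization. -/
theorem isIso_normalizationDesc {V E S : Scheme.{u}} [IsAffine V] [IsLocallyNoetherian E]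
    (p : E ⟶ V) [IsFinite p] (h : S ⟶ E) [IsOpenImmersion h] (g : S ⟶ V) [QuasiCompact g] [QuasiSeparated g]
    (hg : g = h ≫ p)
    (hn : ∀ e : E, e ∉ Set.range h → (IsDomain (E.presheaf.stalk e) ∧ IsIntegrallyClosed (E.presheaf.stalk e)) ∧
      1 ≤ ringKrullDim (E.presheaf.stalk e)) :
    IsIso (g.normalizationDesc h p hg) := by
  haveI : IsAffine E := isAffine_of_isAffineHom p
  let d := g.normalizationDesc h p hg
  haveI : IsAffine g.normalization := isAffine_of_isAffineHom g.fromNormalization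
  obtain ⟨hinj, hsurj⟩ := exists_eq_of_isIntegral h.opensRange hn
  suffices hb : Function.Bijective d.appTop.hom by
    haveI : IsIso d.appTop := (ConcreteCategory.isIso_iff_bijective _).mpr hb
    exact ((MorphismProperty.isomorphisms Scheme.{u}).arrow_mk_iso_iff (arrowIsoSpecΓOfIsAffine d)).mpr
      (inferInstanceAs (IsIso (Spec.map d.appTop)))
  have hh : Function.Injective h.appTop.hom := by
    have e1 : h.appTop = E.presheaf.map (homOfLE (le_top : h.opensRange ≤ ⊤)).op ≫
        (h.appLE h.opensRange ⊤ (by rw [Scheme.Hom.preimage_opensRange])) := by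
      rw [Scheme.Hom.map_appLE]
      exact (Scheme.Hom.app_eq_appLE _).trans (by rfl)
    rw [e1, CommRingCat.hom_comp, RingHom.coe_comp]
    haveI : IsIso (h.appLE h.opensRange ⊤ (by rw [Scheme.Hom.preimage_opensRange])) := by
      have : h.appLE h.opensRange ⊤ (by rw [Scheme.Hom.preimage_opensRange]) =
          h.app h.opensRange ≫ S.presheaf.map (eqToHom (by rw [Scheme.Hom.preimage_opensRange])).op := rfl
      rw [this]
      haveI := h.isIso_app h.opensRange le_rfl
      infer_instance
    exact ((ConcreteCategory.bijective_of_isIso _).1).comp hinj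
  have hd : d.appTop ≫ g.toNormalization.appTop = h.appTop := by
    rw [← Scheme.Hom.comp_appTop, g.toNormalization_normalizationDesc]
  have hN : Function.Injective g.toNormalization.appTop.hom := by
    have h1 := g.toNormalization_app_preimage ⟨⊤, isAffineOpen_top V⟩
    show Function.Injective (g.toNormalization.app (g.fromNormalization ⁻¹ᵁ ⊤)).hom
    rw [h1]
    simp only [CommRingCat.hom_comp, RingHom.coe_comp]
    exact ((ConcreteCategory.bijective_of_isIso _).1.comp Subtype.val_injective).comp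
      ((ConcreteCategory.bijective_of_isIso _).1)
  refine ⟨fun a b hab => hh ?_, fun x => ?_⟩
  · rw [← hd]
    exact congrArg g.toNormalization.appTop.hom hab
  · -- the image of `x` is integral over the sections of `E`
    let iso := h.appLE h.opensRange ⊤ (by rw [Scheme.Hom.preimage_opensRange])
    haveI : IsIso iso := by
      have : iso = h.app h.opensRange ≫ S.presheaf.map (eqToHom (by rw [Scheme.Hom.preimage_opensRange])).op := rfl
      rw [this]
      haveI := h.isIso_app h.opensRange le_rfl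
      infer_instance
    have e1 : h.appTop = E.presheaf.map (homOfLE (le_top : h.opensRange ≤ ⊤)).op ≫ iso := by
      rw [Scheme.Hom.map_appLE]
      exact (Scheme.Hom.app_eq_appLE _).trans (by rfl)
    obtain ⟨s, hs⟩ := (ConcreteCategory.bijective_of_isIso iso).2 (g.toNormalization.appTop.hom x)
    have hxi : g.fromNormalization.appTop.hom.IsIntegralElem x :=
      IsIntegralHom.isIntegral_app g.fromNormalization ⊤ (isAffineOpen_top V) x
    have hsi : (E.presheaf.map (homOfLE (le_top : h.opensRange ≤ ⊤)).op).hom.IsIntegralElem s := by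
      obtain ⟨P, hP, hPx⟩ := hxi
      refine ⟨P.map p.appTop.hom, hP.map _, (ConcreteCategory.bijective_of_isIso iso).1 ?_⟩
      rw [map_zero, Polynomial.eval₂_map, Polynomial.hom_eval₂]
      have h1 := congrArg g.toNormalization.appTop.hom hPx
      rw [map_zero, Polynomial.hom_eval₂] at h1
      rw [show iso.hom s = g.toNormalization.appTop.hom x from hs]
      convert h1 using 2
      rw [← RingHom.comp_assoc, ← CommRingCat.hom_comp, ← e1, ← CommRingCat.hom_comp, ← CommRingCat.hom_comp,
        ← Scheme.Hom.comp_appTop, ← Scheme.Hom.comp_appTop, g.toNormalization_fromNormalization, hg]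
    obtain ⟨r, hr⟩ := hsurj s hsi
    refine ⟨r, hN ?_⟩
    rw [← CommRingCat.comp_apply, hd, e1, CommRingCat.comp_apply, hr]
    exact hs

end

end Groth.Agent.PurityReg
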