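import Groth.Agent.S0248
import Groth.Agent.EtStruct.Core
import Groth.Agent.EtStruct.BaseChangeDescent
import Groth.Agent.Hensel.EssSub
import Groth.Agent.Hensel.EtLikeLocal
import Groth.Agent.Hensel.EtLikeNormal
import Mathlib.RingTheory.Etale.QuasiFinite

/-!
# Purity at a point of a quasi-finite algebra over a regular base

* `isEtLike_localization`: the local ring of an étale algebra at a prime is étale-like over the
  local ring of the base.
* `exists_etale_finite_local`: étale-local structure of a quasi-finite algebra, as local rings.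
* `isEtaleAt_of_regular`: purity at a prime of a quasi-finite algebra.
-/

set_option autoImplicit false
universe u

namespace Groth.Agent.PurityReg

set_option backward.isDefEq.respectTransparency.types false
set_option linter.style.haveILetI false
set_option maxHeartbeats 800000

open scoped TensorProduct
open IsLocalRing

theorem isEtLike_localization {R S : Type u} [CommRing R] [CommRing S] [Algebra R S]
    [Algebra.Etale R S] (p : Ideal R) [p.IsPrime] (Q : Ideal S) [Q.IsPrime] [Q.LiesOver p] :
    letI := Localization.AtPrime.algebraOfLiesOver p Q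
    Hensel.IsEtLike (Localization.AtPrime p) (Localization.AtPrime Q) := by
  letI := Localization.AtPrime.algebraOfLiesOver p Q
  let Rp := Localization.AtPrime p
  let M := Algebra.algebraMapSubmonoid S p.primeCompl
  let Sp := Localization M
  have hle : M ≤ Q.primeCompl := by
    rintro _ ⟨r, hr, rfl⟩ h
    exact hr (by rw [Q.over_def p]; exact h)
  haveI : Algebra.IsPushout R Rp S Sp :=
    (Algebra.isPushout_of_isLocalization p.primeCompl Rp S Sp).symm
  haveI : Algebra.Etale Rp Sp := Algebra.Etale.of_equiv (Algebra.IsPushout.equiv R Rp S Sp)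
  have hd : Disjoint (M : Set S) (Q : Set S) := Set.disjoint_left.mpr fun x hx => hle hx
  let Qp : Ideal Sp := Q.map (algebraMap S Sp)
  haveI : Qp.IsPrime := IsLocalization.isPrime_of_isPrime_disjoint M Sp Q ‹_› hd
  have hQQ : Qp.comap (algebraMap S Sp) = Q := IsLocalization.under_map_of_isPrime_disjoint M Sp ‹_› hd
  haveI : IsLocalization.AtPrime (Localization.AtPrime Qp) Q := by
    have := IsLocalization.isLocalization_isLocalization_atPrime_isLocalization M
      (Localization.AtPrime Qp) Qp
    convert this using 2
    exact hQQ.symm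
  refine Hensel.isEtLike_of_isEssentiallyEtale ⟨Sp, inferInstance, inferInstance, Qp, inferInstance,
    inferInstance, ?_, ⟨{ IsLocalization.algEquiv Q.primeCompl (Localization.AtPrime Q)
      (Localization.AtPrime Qp) with commutes' := fun r => ?_ }⟩⟩
  · haveI : (Qp.comap (algebraMap Rp Sp)).IsPrime := Ideal.IsPrime.comap _
    apply (IsLocalization.orderEmbedding p.primeCompl Rp).injective
    show (Qp.comap (algebraMap Rp Sp)).comap (algebraMap R Rp) = (maximalIdeal Rp).comap (algebraMap R Rp)
    rw [Ideal.comap_comap, ← IsScalarTower.algebraMap_eq, IsScalarTower.algebraMap_eq R S Sp,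
      ← Ideal.comap_comap, hQQ]
    exact (Q.over_def p).symm.trans (IsLocalization.AtPrime.under_maximalIdeal Rp p).symm
  · let φ := (IsLocalization.algEquiv Q.primeCompl (Localization.AtPrime Q)
      (Localization.AtPrime Qp)).toAlgHom.restrictScalars R
    show φ.toRingHom.comp (algebraMap Rp (Localization.AtPrime Q)) r = algebraMap Rp _ r
    congr 1
    refine IsLocalization.ringHom_ext p.primeCompl (RingHom.ext fun x => ?_)
    simp only [RingHom.comp_apply, ← IsScalarTower.algebraMap_apply]
    exact φ.commutes x

/-- The étale-local structure of a quasi-finite algebra at a prime, as a statement on local rings. -/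
theorem exists_etale_finite_local (A B : Type u) [CommRing A] [CommRing B] [Algebra A B]
    [Algebra.FiniteType A B] (q : Ideal B) [q.IsPrime] [Algebra.QuasiFiniteAt A q] :
    ∃ (R' : Type u) (_ : CommRing R') (_ : Algebra A R') (_ : Algebra.Etale A R')
      (P : Ideal R') (_ : P.IsPrime) (_ : P.LiesOver (q.under A))
      (P' : Ideal (R' ⊗[A] B)) (_ : P'.IsPrime) (_ : P'.LiesOver P),
      P'.comap Algebra.TensorProduct.includeRight.toRingHom = q ∧
      letI := Localization.AtPrime.algebraOfLiesOver P P'
      Module.Finite (Localization.AtPrime P) (Localization.AtPrime P') := by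
  obtain ⟨R', _, _, _, P, _, _, e, he, P', _, _, hq, heP, -, hfin, huniq⟩ :=
    Algebra.exists_etale_isIdempotentElem_forall_liesOver_eq (q.under A) q
  refine ⟨R', inferInstance, inferInstance, inferInstance, P, inferInstance, inferInstance, P',
    inferInstance, inferInstance, hq, ?_⟩
  letI := Localization.AtPrime.algebraOfLiesOver P P'
  let W := Localization.Away e
  let A' := Localization.AtPrime P
  let M := Algebra.algebraMapSubmonoid W P.primeCompl
  let C₀ := Localization M
  haveI : Module.Finite R' W := hfin
  haveI : Module.Finite A' C₀ := Module.Finite.of_isLocalization R' W P.primeCompl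
  haveI : Algebra.IsIntegral A' C₀ := Algebra.IsIntegral.of_finite A' C₀
  haveI : IsScalarTower R' (R' ⊗[A] B) C₀ := inferInstance
  have hmax : ∀ (m : Ideal C₀), m.IsMaximal → m.under (R' ⊗[A] B) = P' := fun m hm => by
    haveI := hm
    refine huniq _ (Ideal.IsPrime.comap _) ⟨?_⟩ fun h => ?_
    · have h1 : m.under A' = maximalIdeal A' :=
        IsLocalRing.eq_maximalIdeal (Ideal.isMaximal_comap_of_isIntegral_of_isMaximal m)
      rw [← IsLocalization.AtPrime.under_maximalIdeal A' P, ← h1]
      simp only [Ideal.under, Ideal.comap_comap, ← IsScalarTower.algebraMap_eq]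
    · refine hm.ne_top (Ideal.eq_top_of_isUnit_mem _ h ?_)
      rw [IsScalarTower.algebraMap_apply (R' ⊗[A] B) W C₀]
      exact (IsLocalization.Away.algebraMap_isUnit e).map _
  have hu : ∀ t : P'.primeCompl, IsUnit (algebraMap (R' ⊗[A] B) C₀ t) := fun t => by
    by_contra h
    obtain ⟨m, hm, hmt⟩ := exists_max_ideal_of_mem_nonunits h
    exact t.2 (hmax m hm ▸ hmt)
  haveI : IsLocalization.AtPrime C₀ P' := by
    refine { map_units := hu, surj := fun z => ?_, exists_of_eq := fun {x y} hxy => ?_ }
    · obtain ⟨⟨w, ⟨_, r, hr, rfl⟩⟩, hw⟩ := IsLocalization.surj M z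
      obtain ⟨⟨t, ⟨_, n, rfl⟩⟩, ht⟩ := IsLocalization.surj (Submonoid.powers e) w
      refine ⟨⟨t, ⟨algebraMap R' (R' ⊗[A] B) r * e ^ n, fun h => ?_⟩⟩, ?_⟩
      · rcases (Ideal.IsPrime.mem_or_mem inferInstance h) with h | h
        · exact hr (by rw [P'.over_def P]; exact h)
        · exact heP (Ideal.IsPrime.mem_of_pow_mem inferInstance n h)
      · simp only [IsScalarTower.algebraMap_apply (R' ⊗[A] B) W C₀, map_mul, map_pow,
          ← IsScalarTower.algebraMap_apply R' (R' ⊗[A] B) W] at hw ht ⊢
        rw [← ht, map_mul, map_pow, ← hw]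
        ring
    · rw [IsScalarTower.algebraMap_apply (R' ⊗[A] B) W C₀, IsScalarTower.algebraMap_apply (R' ⊗[A] B) W C₀,
        IsLocalization.eq_iff_exists M] at hxy
      obtain ⟨⟨_, r, hr, rfl⟩, h⟩ := hxy
      simp only [IsScalarTower.algebraMap_apply R' (R' ⊗[A] B) W, ← map_mul,
        IsLocalization.eq_iff_exists (Submonoid.powers e)] at h
      obtain ⟨⟨_, n, rfl⟩, h⟩ := h
      refine ⟨⟨e ^ n * algebraMap R' (R' ⊗[A] B) r, fun h' => ?_⟩, ?_⟩
      · rcases (Ideal.IsPrime.mem_or_mem inferInstance h') with h' | h'
        · exact heP (Ideal.IsPrime.mem_of_pow_mem inferInstance n h')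
        · exact hr (by rw [P'.over_def P]; exact h')
      · show e ^ n * algebraMap R' (R' ⊗[A] B) r * x = e ^ n * algebraMap R' (R' ⊗[A] B) r * y
        rw [mul_assoc, mul_assoc]
        exact h
  let E := (IsLocalization.algEquiv P'.primeCompl C₀ (Localization.AtPrime P')).toAlgHom.restrictScalars R'
  let E' : C₀ ≃ₐ[A'] Localization.AtPrime P' :=
    { IsLocalization.algEquiv P'.primeCompl C₀ (Localization.AtPrime P') with
      commutes' := fun r => by
        show E.toRingHom.comp (algebraMap A' C₀) r = algebraMap A' _ r
        congr 1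
        refine IsLocalization.ringHom_ext P.primeCompl (RingHom.ext fun x => ?_)
        simp only [RingHom.comp_apply, ← IsScalarTower.algebraMap_apply]
        exact E.commutes x }
  exact Module.Finite.equiv E'.toLinearEquiv

/-- Base change of étaleness at a prime. -/
theorem isEtaleAt_baseChange {A B R' : Type u} [CommRing A] [CommRing B] [Algebra A B]
    [Algebra.FinitePresentation A B] [CommRing R'] [Algebra A R']
    (q' : Ideal B) [q'.IsPrime] [Algebra.IsEtaleAt A q'] (Q : Ideal (R' ⊗[A] B)) [Q.IsPrime]
    (h : Q.comap Algebra.TensorProduct.includeRight.toRingHom = q') : Algebra.IsEtaleAt R' Q := by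
  obtain ⟨f, hf, _⟩ := Algebra.exists_etale_of_isEtaleAt (R := A) q'
  haveI : Algebra.Etale R' (Localization.Away ((1 : R') ⊗ₜ[A] f)) :=
    Algebra.Etale.of_equiv (IsLocalization.Away.tensorProductEquivTMulRight A R' f (Localization.Away f))
  exact Algebra.basicOpen_subset_etaleLocus_iff_etale.mpr ‹_›
    (show (⟨Q, ‹_›⟩ : PrimeSpectrum (R' ⊗[A] B)) ∈ PrimeSpectrum.basicOpen ((1 : R') ⊗ₜ[A] f) from
      fun hQ => hf (h ▸ hQ))

/-- At a quasi-finite point with normal local ring over a regular local ring, the structure map is
injective if and only if the dimensions agree. -/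
theorem injective_iff_ringKrullDim_eq (A B : Type u) [CommRing A] [CommRing B] [Algebra A B]
    [IsNoetherianRing A] [Algebra.FiniteType A B] (q : Ideal B) [q.IsPrime]
    [Algebra.QuasiFiniteAt A q] (hA : IsRegularLocalRing (Localization.AtPrime (q.under A)))
    (hB : IsDomain (Localization.AtPrime q) ∧ IsIntegrallyClosed (Localization.AtPrime q))
    :
    Function.Injective (Localization.localRingHom (q.under A) q (algebraMap A B) rfl) ↔
      ringKrullDim (Localization.AtPrime q) = ringKrullDim (Localization.AtPrime (q.under A)) := by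
  haveI : Algebra.FinitePresentation A B := Algebra.FinitePresentation.of_finiteType.mp inferInstance
  obtain ⟨R', _, _, _, P, _, _, P', _, _, hq, hfin⟩ := exists_etale_finite_local A B q
  haveI : IsNoetherianRing R' := Algebra.FiniteType.isNoetherianRing A R'
  let T := R' ⊗[A] B
  letI : Algebra B T := Algebra.TensorProduct.rightAlgebra
  haveI : Algebra.Etale B T :=
    Algebra.Etale.of_equiv (A := B ⊗[A] R')
      (AlgEquiv.ofRingEquiv (f := (Algebra.TensorProduct.comm A B R').toRingEquiv)
        (fun b => by
          change Algebra.TensorProduct.comm A B R' (b ⊗ₜ 1) = (1 : R') ⊗ₜ[A] b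
          simp))
  haveI : P'.LiesOver q := ⟨hq.symm⟩
  haveI : IsScalarTower A B T := .of_algebraMap_eq fun a => by
    show algebraMap A T a = (1 : R') ⊗ₜ[A] algebraMap A B a
    exact (Algebra.TensorProduct.includeRight.commutes a).symm
  let p := q.under A
  letI := Localization.AtPrime.algebraOfLiesOver p q
  letI := Localization.AtPrime.algebraOfLiesOver p P
  letI := Localization.AtPrime.algebraOfLiesOver P P'
  letI := Localization.AtPrime.algebraOfLiesOver q P'
  let A₀ := Localization.AtPrime p
  let A' := Localization.AtPrime P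
  let B₀ := Localization.AtPrime q
  let C := Localization.AtPrime P'
  haveI : Module.Finite A' C := hfin
  have hA' : Hensel.IsEtLike A₀ A' := isEtLike_localization p P
  have hC : Hensel.IsEtLike B₀ C := isEtLike_localization q P'
  haveI : IsRegularLocalRing A' := hA'.isRegularLocalRing_iff.mp hA
  haveI := hB.1
  haveI := hB.2
  obtain ⟨_, _⟩ := hC.normal_iff.mp ⟨inferInstanceAs (IsDomain B₀), inferInstanceAs (IsIntegrallyClosed B₀)⟩
  have hcomm : (algebraMap A' C).comp (algebraMap A₀ A') = (algebraMap B₀ C).comp (algebraMap A₀ B₀) := by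
    refine IsLocalization.ringHom_ext p.primeCompl (RingHom.ext fun a => ?_)
    simp only [RingHom.comp_apply, ← IsScalarTower.algebraMap_apply]
  haveI := Groth.Agent.RegLoc.isDomain A'
  haveI : Algebra.IsIntegral A' C := Algebra.IsIntegral.of_finite A' C
  constructor
  · intro hinj
    have hinj' : Function.Injective (algebraMap A' C) := by
      rw [RingHom.injective_iff_ker_eq_bot]
      haveI := Groth.Agent.RegLoc.isDomain A'
      haveI : (RingHom.ker (algebraMap A' C)).IsPrime := RingHom.ker_isPrime _
      haveI : (⊥ : Ideal A').IsPrime := Ideal.isPrime_bot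
      refine (hA'.eq_of_le_of_comap_eq bot_le ?_).symm
      rw [Ideal.comap_bot_of_injective _ hA'.algebraMap_injective, RingHom.comap_ker, hcomm,
        eq_comm, ← RingHom.injective_iff_ker_eq_bot]
      exact hC.algebraMap_injective.comp hinj
    show ringKrullDim B₀ = ringKrullDim A₀
    rw [← hC.ringKrullDim_eq, ← hA'.ringKrullDim_eq]
    haveI : FaithfulSMul A' C := (faithfulSMul_iff_algebraMap_injective A' C).mpr hinj'
    exact VarDim.ringKrullDim_eq_of_isIntegral
  · intro hdim
    have hinj' : Function.Injective (algebraMap A' C) := by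
      rw [RingHom.injective_iff_ker_eq_bot]
      by_contra hne
      obtain ⟨a, ha, ha0⟩ := Submodule.exists_mem_ne_zero_of_ne_bot hne
      have h1 : ringKrullDim (A' ⧸ RingHom.ker (algebraMap A' C)) + 1 ≤ ringKrullDim A' :=
        ringKrullDim_succ_le_of_surjective _ Ideal.Quotient.mk_surjective
          (mem_nonZeroDivisors_of_ne_zero ha0) (Ideal.Quotient.eq_zero_iff_mem.mpr ha)
      have h2 : ringKrullDim C ≤ ringKrullDim (A' ⧸ RingHom.ker (algebraMap A' C)) := by
        letI : Algebra (A' ⧸ RingHom.ker (algebraMap A' C)) C := (RingHom.kerLift (algebraMap A' C)).toAlgebra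
        haveI : Algebra.IsIntegral (A' ⧸ RingHom.ker (algebraMap A' C)) C := ⟨fun c => by
          obtain ⟨P, hP, hc⟩ := Algebra.IsIntegral.isIntegral (R := A') c
          refine ⟨P.map (Ideal.Quotient.mk _), hP.map _, ?_⟩
          rw [Polynomial.eval₂_map]
          exact hc⟩
        exact Order.krullDim_le_of_strictMono _ VarDim.strictMono_comap_of_isIntegral
      have h3 := (add_le_add h2 le_rfl).trans h1
      rw [hC.ringKrullDim_eq, hA'.ringKrullDim_eq, hdim] at h3
      obtain ⟨n, hn⟩ : ∃ n : ℕ, ringKrullDim A₀ = n := by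
        rw [← IsLocalRing.maximalIdeal_height_eq_ringKrullDim]
        obtain ⟨n, hn⟩ := WithTop.ne_top_iff_exists.mp ((maximalIdeal A₀).height_ne_top (maximalIdeal.isMaximal A₀).ne_top)
        exact ⟨n, by rw [← hn]; rfl⟩
      rw [show ringKrullDim (Localization.AtPrime (q.under A)) = (n : WithBot ℕ∞) from hn] at h3
      exact absurd h3 (by exact_mod_cast Nat.not_succ_le_self n)
    intro x y hxy
    refine hA'.algebraMap_injective (hinj' ?_)
    have := congrArg (algebraMap B₀ C) hxy
    simp only [← RingHom.comp_apply, hcomm]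
    exact this

/-- Purity at a prime: a quasi-finite algebra with normal local ring over a regular local ring of
dimension at least two, étale at all strictly smaller primes, is étale at the prime. -/
theorem isEtaleAt_of_regular (A B : Type u) [CommRing A] [CommRing B] [Algebra A B]
    [IsNoetherianRing A] [Algebra.FiniteType A B] (q : Ideal B) [q.IsPrime]
    [Algebra.QuasiFiniteAt A q] (hA : IsRegularLocalRing (Localization.AtPrime (q.under A)))
    (hdim : (2 : WithBot ℕ∞) ≤ ringKrullDim (Localization.AtPrime (q.under A)))
    (hB : IsDomain (Localization.AtPrime q) ∧ IsIntegrallyClosed (Localization.AtPrime q))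
    (hinj : Function.Injective (Localization.localRingHom (q.under A) q (algebraMap A B) rfl))
    (H : ∀ (q' : Ideal B) [q'.IsPrime], q' < q → Algebra.IsEtaleAt A q') :
    Algebra.IsEtaleAt A q := by
  haveI : Algebra.FinitePresentation A B := Algebra.FinitePresentation.of_finiteType.mp inferInstance
  obtain ⟨R', _, _, _, P, _, _, P', _, _, hq, hfin⟩ := exists_etale_finite_local A B q
  haveI : IsNoetherianRing R' := Algebra.FiniteType.isNoetherianRing A R'
  let T := R' ⊗[A] B
  letI : Algebra B T := Algebra.TensorProduct.rightAlgebra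
  haveI : Algebra.Etale B T :=
    Algebra.Etale.of_equiv (A := B ⊗[A] R')
      (AlgEquiv.ofRingEquiv (f := (Algebra.TensorProduct.comm A B R').toRingEquiv)
        (fun b => by
          change Algebra.TensorProduct.comm A B R' (b ⊗ₜ 1) = (1 : R') ⊗ₜ[A] b
          simp))
  haveI : P'.LiesOver q := ⟨hq.symm⟩
  haveI : IsScalarTower A B T := .of_algebraMap_eq fun a => by
    show algebraMap A T a = (1 : R') ⊗ₜ[A] algebraMap A B a
    exact (Algebra.TensorProduct.includeRight.commutes a).symm
  let p := q.under A
  letI := Localization.AtPrime.algebraOfLiesOver p q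
  letI := Localization.AtPrime.algebraOfLiesOver p P
  letI := Localization.AtPrime.algebraOfLiesOver P P'
  letI := Localization.AtPrime.algebraOfLiesOver q P'
  let A₀ := Localization.AtPrime p
  let A' := Localization.AtPrime P
  let B₀ := Localization.AtPrime q
  let C := Localization.AtPrime P'
  haveI : Module.Finite A' C := hfin
  have hA' : Hensel.IsEtLike A₀ A' := isEtLike_localization p P
  have hC : Hensel.IsEtLike B₀ C := isEtLike_localization q P'
  haveI : IsRegularLocalRing A' := hA'.isRegularLocalRing_iff.mp hA
  have hdA' : (2 : WithBot ℕ∞) ≤ ringKrullDim A' := hA'.ringKrullDim_eq ▸ hdim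
  haveI := hB.1
  haveI := hB.2
  obtain ⟨_, _⟩ := hC.normal_iff.mp ⟨inferInstanceAs (IsDomain B₀), inferInstanceAs (IsIntegrallyClosed B₀)⟩
  have hcomm : (algebraMap A' C).comp (algebraMap A₀ A') = (algebraMap B₀ C).comp (algebraMap A₀ B₀) := by
    refine IsLocalization.ringHom_ext p.primeCompl (RingHom.ext fun a => ?_)
    simp only [RingHom.comp_apply, ← IsScalarTower.algebraMap_apply]
  have hinj' : Function.Injective (algebraMap A' C) := by
    rw [RingHom.injective_iff_ker_eq_bot]
    haveI := Groth.Agent.RegLoc.isDomain A'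
    haveI : (RingHom.ker (algebraMap A' C)).IsPrime := RingHom.ker_isPrime _
    haveI : (⊥ : Ideal A').IsPrime := Ideal.isPrime_bot
    refine (hA'.eq_of_le_of_comap_eq bot_le ?_).symm
    rw [Ideal.comap_bot_of_injective _ hA'.algebraMap_injective, RingHom.comap_ker, hcomm,
      eq_comm, ← RingHom.injective_iff_ker_eq_bot]
    exact hC.algebraMap_injective.comp hinj
  have hET : Algebra.Etale A' C := by
    refine Groth.Agent.S0248.result A' C hdA' hinj' fun Q hQ hne => ?_
    have hQm : Q ≠ maximalIdeal C := fun h => hne (by
      rw [h]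
      exact IsLocalRing.eq_maximalIdeal (Ideal.isMaximal_comap_of_isIntegral_of_isMaximal (R := A') (maximalIdeal C)))
    let Q' := Q.under T
    haveI : Q'.IsPrime := Ideal.IsPrime.comap _
    have hQP : Q' ≤ P' :=
      (Ideal.comap_mono (le_maximalIdeal hQ.ne_top)).trans
        (IsLocalization.AtPrime.under_maximalIdeal C P').le
    let q' := Q'.under B
    haveI : q'.IsPrime := Ideal.IsPrime.comap _
    have hlt : q' < q := by
      refine lt_of_le_of_ne ((Ideal.comap_mono hQP).trans (P'.over_def q).symm.le) fun he => hQm ?_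
      refine hC.eq_of_le_of_comap_eq (le_maximalIdeal hQ.ne_top) ?_
      apply (IsLocalization.orderEmbedding q.primeCompl B₀).injective
      show (Q.comap (algebraMap B₀ C)).comap (algebraMap B B₀) =
        ((maximalIdeal C).comap (algebraMap B₀ C)).comap (algebraMap B B₀)
      rw [Ideal.comap_comap, Ideal.comap_comap, ← IsScalarTower.algebraMap_eq,
        IsScalarTower.algebraMap_eq B T C, ← Ideal.comap_comap, ← Ideal.comap_comap,
        show (maximalIdeal C).comap (algebraMap T C) = P' from IsLocalization.AtPrime.under_maximalIdeal C P']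
      exact he.trans (P'.over_def q)
    haveI := H q' hlt
    haveI : Algebra.IsEtaleAt R' Q' := isEtaleAt_baseChange q' Q' rfl
    -- the localization of `C` at `Q` is the localization of `T` at `Q'`
    haveI : IsLocalization.AtPrime (Localization.AtPrime Q) Q' :=
      IsLocalization.isLocalization_isLocalization_atPrime_isLocalization P'.primeCompl
        (Localization.AtPrime Q) Q
    haveI : Algebra.FormallyEtale R' (Localization.AtPrime Q) :=
      Algebra.FormallyEtale.of_equiv
        ((IsLocalization.algEquiv Q'.primeCompl (Localization.AtPrime Q')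
          (Localization.AtPrime Q)).restrictScalars R')
    haveI : Algebra.FormallyEtale R' A' := .of_isLocalization P.primeCompl
    exact Algebra.FormallyEtale.of_restrictScalars (R := R') (A := A') (B := Localization.AtPrime Q)
  -- descend
  haveI : Algebra.FormallyEtale R' A' := .of_isLocalization P.primeCompl
  haveI : Algebra.IsEtaleAt R' P' := Algebra.FormallyEtale.comp R' A' C
  have h1 : (⟨P', inferInstance⟩ : PrimeSpectrum T) ∈ Algebra.unramifiedLocus R' T ∩ Algebra.smoothLocus R' T :=
    Algebra.etaleLocus_eq_unramfiedLocus_inter_smoothLocus.le ‹Algebra.IsEtaleAt R' P'›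
  haveI : Algebra.IsUnramifiedAt R' P' := h1.1
  haveI : Algebra.IsSmoothAt R' P' := h1.2
  have h2 := EtStruct.isUnramifiedAt_of_flat_baseChange (A := A) (B := B) (A' := R') P'
  have h3 := EtStruct.isSmoothAt_of_flat_baseChange (A := A) (B := B) (A' := R') P'
  have h4 : (⟨P'.comap (algebraMap B T), inferInstance⟩ : PrimeSpectrum B) ∈ Algebra.etaleLocus A B :=
    Algebra.etaleLocus_eq_unramfiedLocus_inter_smoothLocus.ge ⟨h2, h3⟩
  have h5 : (⟨P'.comap (algebraMap B T), inferInstance⟩ : PrimeSpectrum B) = ⟨q, inferInstance⟩ :=
    PrimeSpectrum.ext hq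
  rw [h5] at h4
  exact h4

end Groth.Agent.PurityReg
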