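import Groth.Agent.PurityReg.Pointwise
import Groth.Agent.RegLoc.Homological
import Groth.Agent.RegLoc.Completion

/-!
# Purity of the branch locus at a point, from codimension one

* `loc_*`: behaviour under generalization.
* `isEtaleAt_of_codim_one`: quasi-finite, injective at `q`, étale in codimension one below `q`
  implies étale at `q`, for normal source and regular target.
* `isEtaleAt_of_isUnramifiedAt_of_height_one`: the codimension one input.
-/

set_option autoImplicit false
universe u

namespace Groth.Agent.PurityReg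

set_option backward.isDefEq.respectTransparency.types false
set_option linter.style.haveILetI false
set_option maxHeartbeats 800000

open IsLocalRing

variable {A B : Type u} [CommRing A] [CommRing B]

theorem exists_isLocalization_of_le {q' q : Ideal B} [q'.IsPrime] [q.IsPrime] (hle : q' ≤ q) :
    ∃ (Q : Ideal (Localization.AtPrime q)) (_ : Q.IsPrime),
      Nonempty (Localization.AtPrime Q ≃+* Localization.AtPrime q') := by
  let Bq := Localization.AtPrime q
  have hd : Disjoint (q.primeCompl : Set B) (q' : Set B) := Set.disjoint_left.mpr fun x hx h => hx (hle h)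
  let Q : Ideal Bq := q'.map (algebraMap B Bq)
  haveI : Q.IsPrime := IsLocalization.isPrime_of_isPrime_disjoint q.primeCompl Bq q' ‹_› hd
  refine ⟨Q, inferInstance, ?_⟩
  haveI : IsLocalization.AtPrime (Localization.AtPrime Q) q' := by
    have := IsLocalization.isLocalization_isLocalization_atPrime_isLocalization q.primeCompl
      (Localization.AtPrime Q) Q
    convert this using 2
    exact (IsLocalization.under_map_of_isPrime_disjoint q.primeCompl Bq ‹_› hd).symm
  exact ⟨(IsLocalization.algEquiv q'.primeCompl (Localization.AtPrime Q)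
    (Localization.AtPrime q')).toRingEquiv⟩

theorem loc_normal {q' q : Ideal B} [q'.IsPrime] [q.IsPrime] (hle : q' ≤ q)
    (hB : IsDomain (Localization.AtPrime q) ∧ IsIntegrallyClosed (Localization.AtPrime q)) :
    IsDomain (Localization.AtPrime q') ∧ IsIntegrallyClosed (Localization.AtPrime q') := by
  obtain ⟨Q, _, ⟨e⟩⟩ := exists_isLocalization_of_le hle
  haveI := hB.1
  haveI := hB.2
  haveI : IsDomain (Localization.AtPrime Q) :=
    IsLocalization.isDomain_localization Q.primeCompl_le_nonZeroDivisors
  haveI : IsIntegrallyClosed (Localization.AtPrime Q) :=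
    isIntegrallyClosed_of_isLocalization (Localization.AtPrime Q) Q.primeCompl Q.primeCompl_le_nonZeroDivisors
  exact ⟨e.symm.toMulEquiv.isDomain _, IsIntegrallyClosed.of_equiv e⟩

theorem loc_regular {q' q : Ideal B} [q'.IsPrime] [q.IsPrime] (hle : q' ≤ q)
    (hB : IsRegularLocalRing (Localization.AtPrime q)) :
    IsRegularLocalRing (Localization.AtPrime q') := by
  obtain ⟨Q, _, ⟨e⟩⟩ := exists_isLocalization_of_le hle
  haveI := hB
  haveI := RegLoc.Homological.isRegularLocalRing_localization Q
  exact IsRegularLocalRing.of_ringEquiv e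

theorem loc_injective [Algebra A B] {q' q : Ideal B} [q'.IsPrime] [q.IsPrime] (hle : q' ≤ q)
    [IsDomain (Localization.AtPrime q)]
    (hinj : Function.Injective (Localization.localRingHom (q.under A) q (algebraMap A B) rfl)) :
    Function.Injective (Localization.localRingHom (q'.under A) q' (algebraMap A B) rfl) := by
  rw [injective_iff_map_eq_zero] at hinj ⊢
  intro z hz
  obtain ⟨a, s, rfl⟩ := IsLocalization.exists_mk'_eq (q'.under A).primeCompl z
  rw [Localization.localRingHom_mk', IsLocalization.mk'_eq_zero_iff] at hz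
  obtain ⟨⟨t, ht⟩, hta⟩ := hz
  have h1 : algebraMap B (Localization.AtPrime q) t * algebraMap B (Localization.AtPrime q) (algebraMap A B a) = 0 := by
    rw [← map_mul, show t * algebraMap A B a = 0 from hta, map_zero]
  have h2 : algebraMap B (Localization.AtPrime q) (algebraMap A B a) = 0 := by
    refine (mul_eq_zero.mp h1).resolve_left fun h0 => ?_
    obtain ⟨⟨u, hu⟩, hut⟩ := (IsLocalization.map_eq_zero_iff q.primeCompl _ t).mp h0
    exact hu (hle ((Ideal.IsPrime.mem_or_mem (inferInstanceAs q'.IsPrime)
      (show u * t ∈ q' from (show u * t = 0 from hut) ▸ q'.zero_mem)).resolve_right ht))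
  have h3 := hinj (algebraMap A _ a) (by rw [Localization.localRingHom_to_map]; exact h2)
  obtain ⟨⟨s', hs'⟩, hsa⟩ := (IsLocalization.map_eq_zero_iff (q.under A).primeCompl _ a).mp h3
  rw [IsLocalization.mk'_eq_zero_iff]
  exact ⟨⟨s', fun h => hs' (hle h)⟩, hsa⟩

theorem exists_height_one_le (q : Ideal B) [q.IsPrime] [IsNoetherianRing B]
    [IsDomain (Localization.AtPrime q)] (q' : Ideal B) [q'.IsPrime] (hlt : q' < q) :
    ∃ q₁ : Ideal B, q₁.IsPrime ∧ q₁ ≤ q ∧ q₁.height = 1 ∧ (q'.height = 0 → q' ≤ q₁) := by
  let Bq := Localization.AtPrime q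
  have hd : Disjoint (q.primeCompl : Set B) (q' : Set B) := Set.disjoint_left.mpr fun x hx h => hx (hlt.le h)
  obtain ⟨b, hbq, hb⟩ := SetLike.exists_of_lt hlt
  have hb0 : algebraMap B Bq b ≠ 0 := fun h0 => by
    obtain ⟨⟨u, hu⟩, hub⟩ := (IsLocalization.map_eq_zero_iff q.primeCompl _ b).mp h0
    exact hu (hlt.le ((Ideal.IsPrime.mem_or_mem (inferInstanceAs q'.IsPrime)
      (show u * b ∈ q' from (show u * b = 0 from hub) ▸ q'.zero_mem)).resolve_right hb))
  obtain ⟨Q, hQ, -⟩ := Ideal.exists_minimalPrimes_le
    (show Ideal.span {algebraMap B Bq b} ≤ maximalIdeal Bq from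
      (Ideal.span_singleton_le_iff_mem _).mpr ((IsLocalization.AtPrime.to_map_mem_maximal_iff Bq q b).mpr hbq))
  haveI : Q.IsPrime := hQ.1.1
  have hQ0 : Q ≠ ⊥ := fun h => hb0 (by simpa [h] using hQ.1.2 (Ideal.mem_span_singleton_self _))
  have hQ1 : Q.height = 1 := by
    refine le_antisymm (Ideal.height_le_one_of_isPrincipal_of_mem_minimalPrimes _ _ hQ) ?_
    rw [Order.one_le_iff_pos, pos_iff_ne_zero]
    intro h
    have := (Ideal.height_eq_zero_iff).mp h
    rw [IsDomain.minimalPrimes_eq_singleton_bot, Set.mem_singleton_iff] at this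
    exact hQ0 this
  refine ⟨Q.under B, inferInstance, ?_, by rw [IsLocalization.height_under q.primeCompl, hQ1], fun h0 => ?_⟩
  · exact (Ideal.comap_mono (le_maximalIdeal hQ.1.1.ne_top)).trans
      (IsLocalization.AtPrime.under_maximalIdeal Bq q).le
  · -- the minimal prime below `q` is the kernel of `B → B_q`
    have h1 : q'.map (algebraMap B Bq) = ⊥ := by
      haveI := IsLocalization.isPrime_of_isPrime_disjoint q.primeCompl Bq q' ‹_› hd
      have h2 : (q'.map (algebraMap B Bq)).height = 0 := by
        rw [← IsLocalization.height_under q.primeCompl,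
          IsLocalization.under_map_of_isPrime_disjoint q.primeCompl Bq ‹_› hd, h0]
      have := (Ideal.height_eq_zero_iff).mp h2
      rwa [IsDomain.minimalPrimes_eq_singleton_bot, Set.mem_singleton_iff] at this
    rw [← IsLocalization.under_map_of_isPrime_disjoint q.primeCompl Bq ‹_› hd, h1]
    exact Ideal.comap_mono bot_le

/-- In codimension one, unramified implies étale. -/
theorem isEtaleAt_of_isUnramifiedAt_of_height_one [Algebra A B] [IsNoetherianRing A]
    [Algebra.FiniteType A B] (q : Ideal B) [q.IsPrime] [Algebra.QuasiFiniteAt A q]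
    (hA : IsRegularLocalRing (Localization.AtPrime (q.under A)))
    (hB : IsDomain (Localization.AtPrime q) ∧ IsIntegrallyClosed (Localization.AtPrime q))
    (hinj : Function.Injective (Localization.localRingHom (q.under A) q (algebraMap A B) rfl))
    (hq : q.height = 1) [Algebra.IsUnramifiedAt A q] : Algebra.IsEtaleAt A q := by
  let p := q.under A
  let Ap := Localization.AtPrime p
  let Bq := Localization.AtPrime q
  letI := Localization.AtPrime.algebraOfLiesOver p q
  haveI := hB.1
  have hdim := (injective_iff_ringKrullDim_eq A B q hA hB).mp hinj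
  rw [IsLocalization.AtPrime.ringKrullDim_eq_height q, hq] at hdim
  haveI : IsDomain Ap := RegLoc.isDomain Ap
  haveI : IsDiscreteValuationRing Ap :=
    ((RegLoc.Completion.exists_isDiscreteValuationRing_iff Ap).mpr ⟨hA, hdim.symm⟩).2
  haveI : FaithfulSMul Ap Bq := (faithfulSMul_iff_algebraMap_injective Ap Bq).mpr hinj
  haveI : Module.Flat Ap Bq := inferInstance
  haveI : Module.Flat A Bq := (Module.flat_iff_of_isLocalization Ap p.primeCompl _).mp inferInstance
  exact EtStruct.isEtaleAt_of_isUnramifiedAt_of_flat q

/-- Purity: quasi-finite and injective at `q`, étale in codimension one below `q`. -/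
theorem isEtaleAt_of_codim_one [Algebra A B] [IsNoetherianRing A]
    [Algebra.FiniteType A B] (q : Ideal B) [q.IsPrime] [Algebra.QuasiFiniteAt A q]
    (hA : IsRegularLocalRing (Localization.AtPrime (q.under A)))
    (hB : IsDomain (Localization.AtPrime q) ∧ IsIntegrallyClosed (Localization.AtPrime q))
    (hinj : Function.Injective (Localization.localRingHom (q.under A) q (algebraMap A B) rfl))
    (hpos : 1 ≤ q.height)
    (h1 : ∀ (q₁ : Ideal B) [q₁.IsPrime], q₁ ≤ q → q₁.height = 1 → Algebra.IsEtaleAt A q₁) :
    Algebra.IsEtaleAt A q := by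
  haveI : IsNoetherianRing B := Algebra.FiniteType.isNoetherianRing A B
  haveI : Algebra.FinitePresentation A B := Algebra.FinitePresentation.of_finiteType.mp inferInstance
  induction hn : q.height using WellFoundedLT.induction generalizing q with
  | ind n ih =>
    subst hn
    by_cases h : q.height = 1
    · exact h1 q le_rfl h
    have h2 : 2 ≤ q.height := by
      rcases eq_or_lt_of_le hpos with e | e
      · exact absurd e.symm h
      · exact Order.add_one_le_of_lt e
    haveI := hB.1
    refine isEtaleAt_of_regular A B q hA ?_ hB hinj fun q' _ hlt => ?_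
    · rw [← (injective_iff_ringKrullDim_eq A B q hA hB).mp hinj, IsLocalization.AtPrime.ringKrullDim_eq_height q]
      exact WithBot.coe_le_coe.mpr h2
    by_cases h0 : q'.height = 0
    · obtain ⟨q₁, _, hle, hht, hle'⟩ := exists_height_one_le q q' hlt
      have : (⟨q₁, inferInstance⟩ : PrimeSpectrum B) ∈ Algebra.etaleLocus A B := h1 q₁ hle hht
      have h3 : (⟨q', inferInstance⟩ : PrimeSpectrum B) ∈ Algebra.etaleLocus A B :=
        ((PrimeSpectrum.le_iff_specializes _ _).mp (hle' h0 : (⟨q', inferInstance⟩ : PrimeSpectrum B) ≤ ⟨q₁, inferInstance⟩)).mem_open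
          Algebra.isOpen_etaleLocus this
      exact h3
    haveI : Algebra.QuasiFiniteAt A q' := .of_le hlt.le
    refine ih q'.height (Ideal.height_strict_mono_of_isPrime hlt) q'
      (loc_regular (Ideal.comap_mono hlt.le) hA) (loc_normal hlt.le hB) (loc_injective hlt.le hinj)
      (Order.one_le_iff_pos.mpr (pos_iff_ne_zero.mpr h0)) (fun q₁ _ hle hht => h1 q₁ (hle.trans hlt.le) hht) rfl

end Groth.Agent.PurityReg
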