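import Groth.Agent.EtStruct.Scheme
import Mathlib.RingTheory.RegularLocalRing.Defs
import Mathlib.AlgebraicGeometry.Morphisms.QuasiFinite

/-!
# Translating pointwise conditions on a morphism to a chart

* `etale_nhd_iff_isEtaleAt` : étale near `x` iff étale at the corresponding prime
* `exists_point_of_le` : primes below the prime of `x` are generalizations of `x`
* `ringKrullDim_stalk_eq_height`, `injective_stalkMap_iff`
-/

set_option autoImplicit false
universe u

open AlgebraicGeometry CategoryTheory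

namespace Groth.Agent.PurityReg

set_option backward.isDefEq.respectTransparency.types false

variable {X Y : Scheme.{u}} (f : X ⟶ Y) {U : Y.Opens} (hU : IsAffineOpen U) {V : X.Opens}
  (hV : IsAffineOpen V) (hVU : V ≤ f ⁻¹ᵁ U)

include hU in
theorem etale_nhd_iff_isEtaleAt [LocallyOfFiniteType f] [LocallyOfFinitePresentation f] (x : X)
    (hx : x ∈ V) :
    letI := (f.appLE U V hVU).hom.toAlgebra
    (∃ W : X.Opens, x ∈ W ∧ Etale (W.ι ≫ f)) ↔
      Algebra.IsEtaleAt Γ(Y, U) (hV.primeIdealOf ⟨x, hx⟩).asIdeal := by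
  let := (f.appLE U V hVU).hom.toAlgebra
  have : Algebra.FiniteType Γ(Y, U) Γ(X, V) := f.finiteType_appLE hU hV hVU
  have : Algebra.FinitePresentation Γ(Y, U) Γ(X, V) :=
    HasRingHomProperty.appLE (P := @LocallyOfFinitePresentation) f ‹_› ⟨U, hU⟩ ⟨V, hV⟩ hVU
  rw [EtStruct.etale_nhd_iff, EtStruct.formallyUnramified_stalkMap_iff f hU hV hVU hx,
    EtStruct.flat_stalkMap_iff f hU hV hVU hx]
  refine ⟨fun ⟨h1, h2⟩ => ?_, fun h => ⟨?_, EtStruct.flat_of_isEtaleAt _⟩⟩
  · have := h1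
    have := h2
    exact EtStruct.isEtaleAt_of_isUnramifiedAt_of_flat _
  · exact inferInstanceAs (Algebra.FormallyUnramified _ _)

theorem exists_point_of_le (x : X) (hx : x ∈ V) (q : Ideal Γ(X, V)) [hq : q.IsPrime]
    (hle : q ≤ (hV.primeIdealOf ⟨x, hx⟩).asIdeal) :
    ∃ (x' : X) (hx' : x' ∈ V), x' ⤳ x ∧ (hV.primeIdealOf ⟨x', hx'⟩).asIdeal = q := by
  let z : Spec Γ(X, V) := ⟨q, hq⟩
  have hz : hV.fromSpec z ∈ V := by
    have := hV.range_fromSpec
    exact (Set.ext_iff.mp this (hV.fromSpec z)).mp ⟨z, rfl⟩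
  refine ⟨hV.fromSpec z, hz, ?_, ?_⟩
  · have h := ((PrimeSpectrum.le_iff_specializes z _).mp hle).map hV.fromSpec.continuous
    have hx' : hV.fromSpec (hV.primeIdealOf ⟨x, hx⟩) = x := hV.fromSpec_primeIdealOf ⟨x, hx⟩
    rw [← hx']
    exact h
  · have h := hV.fromSpec.isOpenEmbedding.injective
      ((hV.fromSpec_primeIdealOf ⟨hV.fromSpec z, hz⟩) : hV.fromSpec _ = hV.fromSpec z)
    rw [h]

theorem ringKrullDim_stalk_eq_height (x : X) (hx : x ∈ V) :
    ringKrullDim (X.presheaf.stalk x) = ((hV.primeIdealOf ⟨x, hx⟩).asIdeal.height : WithBot ℕ∞) := by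
  let := X.presheaf.algebra_section_stalk ⟨x, hx⟩
  have := hV.isLocalization_stalk ⟨x, hx⟩
  exact IsLocalization.AtPrime.ringKrullDim_eq_height (hV.primeIdealOf ⟨x, hx⟩).asIdeal _

include hV in
theorem stalk_equiv (x : X) (hx : x ∈ V) :
    Nonempty (X.presheaf.stalk x ≃+* Localization.AtPrime (hV.primeIdealOf ⟨x, hx⟩).asIdeal) := by
  let := X.presheaf.algebra_section_stalk ⟨x, hx⟩
  have := hV.isLocalization_stalk ⟨x, hx⟩
  exact ⟨(IsLocalization.algEquiv (hV.primeIdealOf ⟨x, hx⟩).asIdeal.primeCompl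
    (X.presheaf.stalk x) (Localization.AtPrime (hV.primeIdealOf ⟨x, hx⟩).asIdeal)).toRingEquiv⟩

theorem normal_atPrime (x : X) (hx : x ∈ V)
    (h : IsDomain (X.presheaf.stalk x) ∧ IsIntegrallyClosed (X.presheaf.stalk x)) :
    IsDomain (Localization.AtPrime (hV.primeIdealOf ⟨x, hx⟩).asIdeal) ∧
      IsIntegrallyClosed (Localization.AtPrime (hV.primeIdealOf ⟨x, hx⟩).asIdeal) := by
  obtain ⟨e⟩ := stalk_equiv hV x hx
  have := h.1
  have := h.2
  exact ⟨e.symm.toMulEquiv.isDomain _, IsIntegrallyClosed.of_equiv e⟩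

include hU in
theorem regular_atPrime_under (x : X) (hx : x ∈ V)
    (h : IsRegularLocalRing (Y.presheaf.stalk (f x))) :
    letI := (f.appLE U V hVU).hom.toAlgebra
    IsRegularLocalRing (Localization.AtPrime ((hV.primeIdealOf ⟨x, hx⟩).asIdeal.under Γ(Y, U))) := by
  let := (f.appLE U V hVU).hom.toAlgebra
  obtain ⟨e⟩ := stalk_equiv hU (f x) (hVU hx)
  have := h
  have hI : (hV.primeIdealOf ⟨x, hx⟩).asIdeal.under Γ(Y, U) = (hU.primeIdealOf ⟨f x, hVU hx⟩).asIdeal :=
    congr($(IsAffineOpen.comap_primeIdealOf_appLE U hU V hV hVU hx).1)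
  have aux : ∀ (I : Ideal Γ(Y, U)) [I.IsPrime], I = (hU.primeIdealOf ⟨f x, hVU hx⟩).asIdeal →
      IsRegularLocalRing (Localization.AtPrime I) := by
    rintro I _ rfl
    exact IsRegularLocalRing.of_ringEquiv e
  exact aux _ hI

include hU in
theorem ringKrullDim_stalk_base (x : X) (hx : x ∈ V) :
    letI := (f.appLE U V hVU).hom.toAlgebra
    ringKrullDim (Y.presheaf.stalk (f x)) =
      ringKrullDim (Localization.AtPrime ((hV.primeIdealOf ⟨x, hx⟩).asIdeal.under Γ(Y, U))) := by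
  let := (f.appLE U V hVU).hom.toAlgebra
  rw [ringKrullDim_stalk_eq_height hU (f x) (hVU hx),
    IsLocalization.AtPrime.ringKrullDim_eq_height ((hV.primeIdealOf ⟨x, hx⟩).asIdeal.under Γ(Y, U))]
  congr 2
  exact congr($(IsAffineOpen.comap_primeIdealOf_appLE U hU V hV hVU hx).1).symm

end Groth.Agent.PurityReg
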