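import Groth.Agent.PurityReg.Pointwise
import Groth.Agent.TraceEtale.Basic

/-!
# Flat quasi-finite algebras: étale in codimension one implies étale

* `exists_height_one_mem`: a non-unit of a Noetherian local ring of positive dimension lies in a
  prime of height one.
* `etale_of_finite_flat_codim_one`, `isEtaleAt_of_flat_codim_one`.
-/

set_option autoImplicit false
universe u

namespace Groth.Agent.PurityReg

set_option backward.isDefEq.respectTransparency.types false
set_option linter.style.haveILetI false
set_option maxHeartbeats 800000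

open IsLocalRing
open scoped TensorProduct

theorem exists_height_one_le_of_forall_minimal {R : Type u} [CommRing R] [IsNoetherianRing R] {d : R}
    (q : Ideal R) [q.IsPrime] (hq : 1 ≤ q.height) (h : ∀ P ∈ minimalPrimes R, P ≤ q → d ∈ P) :
    ∃ p : Ideal R, p.IsPrime ∧ p.height = 1 ∧ d ∈ p := by
  have hfin := minimalPrimes.finite_of_isNoetherianRing R
  obtain ⟨b, hbq, hb⟩ : ∃ b ∈ q, ∀ P ∈ minimalPrimes R, b ∉ P := by
    by_contra! H
    have : (q : Set R) ⊆ ⋃ P ∈ minimalPrimes R, (P : Set R) := fun x hx => by
      obtain ⟨P, hP, hxP⟩ := H x hx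
      exact Set.mem_biUnion hP hxP
    obtain ⟨P, hP, hqP⟩ := (Ideal.subset_union_prime_finite hfin ⊥ ⊥
      (fun P hP _ _ => Ideal.minimalPrimes_isPrime hP)).mp this
    have hPp : P.IsPrime := Ideal.minimalPrimes_isPrime hP
    have hqmin : q ∈ minimalPrimes R := by
      have e : P = q := le_antisymm (hP.2 ⟨‹_›, bot_le⟩ hqP) hqP
      exact e ▸ hP
    rw [(Ideal.height_eq_zero_iff).mpr hqmin] at hq
    simp at hq
  obtain ⟨p, hp, hpq⟩ := Ideal.exists_minimalPrimes_le ((Ideal.span_singleton_le_iff_mem q).mpr hbq)
  haveI := hp.1.1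
  refine ⟨p, inferInstance, le_antisymm (Ideal.height_le_one_of_isPrincipal_of_mem_minimalPrimes _ _ hp) ?_, ?_⟩
  · rw [Order.one_le_iff_pos, pos_iff_ne_zero]
    exact fun h0 => hb p ((Ideal.height_eq_zero_iff).mp h0) (hp.1.2 (Ideal.mem_span_singleton_self b))
  · obtain ⟨P, hP, hPp⟩ := Ideal.exists_minimalPrimes_le (bot_le : (⊥ : Ideal R) ≤ p)
    exact hPp (h P hP (hPp.trans hpq))

/-- A non-unit of a Noetherian local ring of positive dimension lies in a prime of height one. -/
theorem exists_height_one_mem {R : Type u} [CommRing R] [IsNoetherianRing R] [IsLocalRing R]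
    (hdim : 1 ≤ (maximalIdeal R).height) {d : R} (hd : d ∈ maximalIdeal R) :
    ∃ p : Ideal R, p.IsPrime ∧ p.height = 1 ∧ d ∈ p := by
  classical
  have hfin := minimalPrimes.finite_of_isNoetherianRing R
  let W := hfin.toFinset.filter fun P => d ∉ P
  by_cases hW : W = ∅
  · refine exists_height_one_le_of_forall_minimal (maximalIdeal R) hdim fun P hP _ => ?_
    by_contra h
    have : P ∈ W := Finset.mem_filter.mpr ⟨hfin.mem_toFinset.mpr hP, h⟩
    simp [hW] at this
  let J : Ideal R := W.inf id
  have hWne : W.Nonempty := Finset.nonempty_iff_ne_empty.mpr hW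
  have hJle : J ⊔ Ideal.span {d} ≤ maximalIdeal R := by
    refine sup_le ?_ ((Ideal.span_singleton_le_iff_mem _).mpr hd)
    obtain ⟨P, hP⟩ := hWne
    exact (Finset.inf_le hP).trans (le_maximalIdeal (Ideal.minimalPrimes_isPrime (hfin.mem_toFinset.mp (Finset.mem_filter.mp hP).1)).ne_top)
  obtain ⟨p, hp, -⟩ := Ideal.exists_minimalPrimes_le hJle
  haveI := hp.1.1
  have hdp : d ∈ p := (le_sup_right.trans hp.1.2) (Ideal.mem_span_singleton_self d)
  have hJp : J ≤ p := le_sup_left.trans hp.1.2
  by_cases hex : ∃ q : Ideal R, q.IsPrime ∧ q < p ∧ 1 ≤ q.height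
  · obtain ⟨q, hq, hqp, hqh⟩ := hex
    refine exists_height_one_le_of_forall_minimal q hqh fun P hP hPq => ?_
    by_contra hdP
    haveI : P.IsPrime := Ideal.minimalPrimes_isPrime hP
    have hPW : P ∈ W := Finset.mem_filter.mpr ⟨hfin.mem_toFinset.mpr hP, hdP⟩
    have hne : P < q := lt_of_le_of_ne hPq fun e => by
      subst e
      rw [(Ideal.height_eq_zero_iff).mpr hP] at hqh
      simp at hqh
    -- in `R ⧸ P` the image of `p` is minimal over a principal ideal
    have key : p.map (Ideal.Quotient.mk P) ∈
        (Ideal.span {Ideal.Quotient.mk P d}).minimalPrimes := by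
      have hPp : P ≤ p := hPq.trans hqp.le
      haveI : (p.map (Ideal.Quotient.mk P)).IsPrime :=
        Ideal.map_isPrime_of_surjective Ideal.Quotient.mk_surjective (by rw [Ideal.mk_ker]; exact hPp)
      refine ⟨⟨inferInstance, (Ideal.span_singleton_le_iff_mem _).mpr (Ideal.mem_map_of_mem _ hdp)⟩, ?_⟩
      rintro I ⟨hI, hdI⟩ hle
      haveI := hI
      have h1 : J ⊔ Ideal.span {d} ≤ I.comap (Ideal.Quotient.mk P) := by
        refine sup_le ((Finset.inf_le hPW).trans fun x hx => ?_)
          ((Ideal.span_singleton_le_iff_mem _).mpr (Ideal.mem_comap.mpr (hdI (Ideal.mem_span_singleton_self _))))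
        rw [Ideal.mem_comap, show Ideal.Quotient.mk P x = 0 from Ideal.Quotient.eq_zero_iff_mem.mpr hx]
        exact I.zero_mem
      have h2 : I.comap (Ideal.Quotient.mk P) ≤ p := by
        refine (Ideal.comap_mono hle).trans ?_
        rw [Ideal.comap_map_of_surjective' _ Ideal.Quotient.mk_surjective, Ideal.mk_ker]
        exact sup_le le_rfl hPp
      exact Ideal.map_le_iff_le_comap.mpr (hp.2 ⟨Ideal.IsPrime.comap _, h1⟩ h2)
    haveI := key.1.1
    haveI : (q.map (Ideal.Quotient.mk P)).IsPrime :=
      Ideal.map_isPrime_of_surjective Ideal.Quotient.mk_surjective (by rw [Ideal.mk_ker]; exact hPq)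
    haveI : IsDomain (R ⧸ P) := Ideal.Quotient.isDomain P
    have hcomap : ∀ I : Ideal R, P ≤ I → (I.map (Ideal.Quotient.mk P)).comap (Ideal.Quotient.mk P) = I := fun I hI => by
      rw [Ideal.comap_map_of_surjective' _ Ideal.Quotient.mk_surjective, Ideal.mk_ker, sup_eq_left.mpr hI]
    have hlt : q.map (Ideal.Quotient.mk P) < p.map (Ideal.Quotient.mk P) := by
      refine lt_of_le_of_ne (Ideal.map_mono hqp.le) fun e => hqp.ne ?_
      rw [← hcomap q hPq, ← hcomap p (hPq.trans hqp.le), e]
    have h3 := Ideal.height_strict_mono_of_isPrime hlt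
    have h4 := Ideal.height_le_one_of_isPrincipal_of_mem_minimalPrimes _ _ key
    have h5 : (q.map (Ideal.Quotient.mk P)).height = 0 := ENat.lt_one_iff_eq_zero.mp (lt_of_lt_of_le h3 h4)
    have h6 := (Ideal.height_eq_zero_iff).mp h5
    rw [IsDomain.minimalPrimes_eq_singleton_bot, Set.mem_singleton_iff] at h6
    apply hne.ne
    rw [← hcomap q hPq, h6, ← RingHom.ker_eq_comap_bot, Ideal.mk_ker]
  · push Not at hex
    refine ⟨p, inferInstance, le_antisymm ?_ ?_, hdp⟩
    · rw [show (1 : ℕ∞) = ((1 : ℕ) : ℕ∞) from rfl, Ideal.height_le_iff]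
      exact fun q hq hlt => hex q hq hlt
    · rw [Order.one_le_iff_pos, pos_iff_ne_zero]
      intro h0
      have hmin := (Ideal.height_eq_zero_iff).mp h0
      obtain ⟨P, hPW, hPp⟩ := Ideal.IsPrime.inf_le' (hp := inferInstanceAs p.IsPrime) |>.mp hJp
      have hP := hfin.mem_toFinset.mp (Finset.mem_filter.mp hPW).1
      have : P = p := le_antisymm hPp (hmin.2 ⟨Ideal.minimalPrimes_isPrime hP, bot_le⟩ hPp)
      exact (Finset.mem_filter.mp hPW).2 (this ▸ hdp)

/-- A finite flat algebra over a Noetherian local ring of positive dimension which is étale at all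
primes of height one is étale. -/
theorem etale_of_finite_flat_codim_one (A C : Type u) [CommRing A] [CommRing C] [Algebra A C]
    [IsNoetherianRing A] [IsLocalRing A] [Module.Finite A C] [Module.Flat A C]
    (hdim : 1 ≤ (maximalIdeal A).height)
    (h : ∀ (Q : Ideal C) [Q.IsPrime], Q.height = 1 → Algebra.IsEtaleAt A Q) :
    Algebra.Etale A C := by
  classical
  haveI : Module.Free A C := Module.free_of_flat_of_isLocalRing
  haveI : Algebra.FinitePresentation A C := by
    have := Module.finitePresentation_of_finite A C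
    exact .of_finitePresentation A C
  haveI : IsNoetherianRing C := IsNoetherianRing.of_finite A C
  haveI : Algebra.IsIntegral A C := Algebra.IsIntegral.of_finite A C
  let b := Module.Free.chooseBasis A C
  suffices hu : IsUnit (Algebra.discr A b) by
    exact Groth.Agent.TraceEtale.Basic.etale_of_bijective A C
      ((Groth.Agent.TraceEtale.Basic.isUnit_discr_iff b).mp hu)
  by_contra hnu
  obtain ⟨p, _, hp1, hdp⟩ := exists_height_one_mem hdim ((mem_maximalIdeal _).mpr hnu)
  let M : Submonoid A := p.primeCompl
  let Am := Localization.AtPrime p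
  let Bm := Localization (Algebra.algebraMapSubmonoid C M)
  haveI : Algebra.FormallyUnramified A Bm := by
    refine Algebra.unramifiedLocus_eq_univ_iff.mp (Set.eq_univ_iff_forall.mpr fun R => ?_)
    let Q₀ := R.asIdeal.under C
    haveI : Q₀.IsPrime := Ideal.IsPrime.comap _
    have hQ₀ : Q₀.under A ≤ p := fun a ha => by
      by_contra hap
      exact R.isPrime.ne_top (Ideal.eq_top_of_isUnit_mem _ (Ideal.mem_comap.mp (Ideal.mem_comap.mp ha))
        (IsLocalization.map_units Bm (⟨_, a, hap, rfl⟩ : Algebra.algebraMapSubmonoid C M)))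
    obtain ⟨Q, hle, hQp, hQ⟩ := Ideal.exists_ideal_over_prime_of_isIntegral p Q₀ hQ₀
    haveI := hQp
    haveI : Q.LiesOver p := ⟨hQ.symm⟩
    have hQ1 : Q.height = 1 := by
      refine le_antisymm ?_ ?_
      · refine (VarDim.height_le_height_under_of_isIntegral (R := A) Q).trans ?_
        rw [show Q.under A = p from hQ, hp1]
      · rw [← hp1, ← show Q.under A = p from hQ]
        exact VarDim.height_under_le_of_hasGoingDown Q
    have hQmem : (⟨Q, inferInstance⟩ : PrimeSpectrum C) ∈ Algebra.etaleLocus A C := h Q hQ1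
    have h0 : (⟨Q₀, inferInstance⟩ : PrimeSpectrum C) ∈ Algebra.etaleLocus A C :=
      ((PrimeSpectrum.le_iff_specializes _ _).mp (show (⟨Q₀, inferInstance⟩ : PrimeSpectrum C) ≤ ⟨Q, inferInstance⟩ from hle)).mem_open
        Algebra.isOpen_etaleLocus hQmem
    haveI : Algebra.FormallyUnramified A (Localization.AtPrime Q₀) :=
      haveI : Algebra.FormallyEtale A (Localization.AtPrime Q₀) := h0
      inferInstance
    haveI : IsLocalization.AtPrime (Localization.AtPrime R.asIdeal) Q₀ :=
      IsLocalization.isLocalization_isLocalization_atPrime_isLocalization (Algebra.algebraMapSubmonoid C M)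
        (Localization.AtPrime R.asIdeal) R.asIdeal
    exact Algebra.FormallyUnramified.of_equiv
      ((IsLocalization.algEquiv Q₀.primeCompl (Localization.AtPrime Q₀)
        (Localization.AtPrime R.asIdeal)).restrictScalars A)
  haveI : Algebra.FormallyUnramified Am Bm := Algebra.FormallyUnramified.of_restrictScalars A Am Bm
  let bm := b.localizationLocalization Am M Bm
  haveI : Module.Free Am Bm := Module.Free.of_basis bm
  haveI : Module.Finite Am Bm := Module.Finite.of_basis bm
  have h2 : IsUnit (Algebra.discr Am bm) := (Groth.Agent.TraceEtale.Basic.isUnit_discr_iff bm).mpr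
    (Groth.Agent.TraceEtale.Basic.bijective_traceForm Am Bm)
  rw [Algebra.discr_localizationLocalization, IsLocalization.algebraMap_isUnit_iff M] at h2
  obtain ⟨m, hm, hdvd⟩ := h2
  exact hm (Ideal.mem_of_dvd _ hdvd hdp)

/-- Flat, quasi-finite, and étale in codimension one below `q` implies étale at `q`. -/
theorem isEtaleAt_of_flat_codim_one (A B : Type u) [CommRing A] [CommRing B] [Algebra A B]
    [IsNoetherianRing A] [Algebra.FiniteType A B] (q : Ideal B) [q.IsPrime]
    [Algebra.QuasiFiniteAt A q] [Module.Flat A (Localization.AtPrime q)] (hpos : 1 ≤ q.height)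
    (h1 : ∀ (q₁ : Ideal B) [q₁.IsPrime], q₁ ≤ q → q₁.height = 1 → Algebra.IsEtaleAt A q₁) :
    Algebra.IsEtaleAt A q := by
  haveI : Algebra.FinitePresentation A B := Algebra.FinitePresentation.of_finiteType.mp inferInstance
  haveI : IsNoetherianRing B := Algebra.FiniteType.isNoetherianRing A B
  obtain ⟨R', _, _, _, P, _, _, P', _, _, hq, hfin⟩ := exists_etale_finite_local A B q
  haveI : IsNoetherianRing R' := Algebra.FiniteType.isNoetherianRing A R'
  let T := R' ⊗[A] B
  letI : Algebra B T := Algebra.TensorProduct.rightAlgebra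
  haveI : Algebra.Etale B T :=
    Algebra.Etale.of_equiv (A := B ⊗[A] R')
      (AlgEquiv.ofRingEquiv (f := (Algebra.TensorProduct.comm A B R').toRingEquiv)
        (fun b => by
          change Algebra.TensorProduct.comm A B R' (b ⊗ₜ 1) = (1 : R') ⊗ₜ[A] b
          simp))
  haveI : P'.LiesOver q := ⟨hq.symm⟩
  haveI : IsScalarTower A B T := .of_algebraMap_eq fun a => by
    show algebraMap A T a = (1 : R') ⊗ₜ[A] algebraMap A B a
    exact (Algebra.TensorProduct.includeRight.commutes a).symm
  letI := Localization.AtPrime.algebraOfLiesOver P P'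
  letI := Localization.AtPrime.algebraOfLiesOver q P'
  let A' := Localization.AtPrime P
  let B₀ := Localization.AtPrime q
  let C := Localization.AtPrime P'
  haveI : Module.Finite A' C := hfin
  have hC : Hensel.IsEtLike B₀ C := isEtLike_localization q P'
  haveI := hC.flat
  haveI : Module.Flat A C := Module.Flat.trans A B₀ C
  haveI : Module.Flat R' C := Algebra.FormallyUnramified.flat_of_restrictScalars A R' C
  haveI : Module.Flat A' C := (Module.flat_iff_of_isLocalization A' P.primeCompl _).mpr inferInstance
  haveI : Module.Free A' C := Module.free_of_flat_of_isLocalRing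
  haveI : FaithfulSMul A' C := inferInstance
  haveI : Algebra.IsIntegral A' C := Algebra.IsIntegral.of_finite A' C
  have hht : ∀ (Q : Ideal C) [Q.IsPrime], Q.height = ((Q.under T).under B).height := fun Q _ => by
    rw [hC.height_eq Q, ← IsLocalization.height_under q.primeCompl]
    congr 1
    simp only [Ideal.under, Ideal.comap_comap, ← IsScalarTower.algebraMap_eq]
  have hdim : 1 ≤ (maximalIdeal A').height := by
    have h := hC.ringKrullDim_eq
    rw [VarDim.ringKrullDim_eq_of_isIntegral (R := A') (S := C),
      IsLocalization.AtPrime.ringKrullDim_eq_height q B₀, ← IsLocalRing.maximalIdeal_height_eq_ringKrullDim] at h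
    have h' : (maximalIdeal A').height = q.height := WithBot.coe_inj.mp h
    exact h' ▸ hpos
  haveI hET : Algebra.Etale A' C := by
    refine etale_of_finite_flat_codim_one A' C hdim fun Q _ hQ => ?_
    let Q' := Q.under T
    haveI : Q'.IsPrime := Ideal.IsPrime.comap _
    haveI : (Q'.under B).IsPrime := Ideal.IsPrime.comap _
    have hQP : Q' ≤ P' :=
      (Ideal.comap_mono (le_maximalIdeal (Ideal.IsPrime.ne_top ‹Q.IsPrime›))).trans
        (IsLocalization.AtPrime.under_maximalIdeal C P').le
    haveI := h1 (Q'.under B) ((Ideal.comap_mono hQP).trans (P'.over_def q).symm.le) ((hht Q).symm.trans hQ)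
    haveI : Algebra.IsEtaleAt R' Q' := isEtaleAt_baseChange (Q'.under B) Q' rfl
    haveI : IsLocalization.AtPrime (Localization.AtPrime Q) Q' :=
      IsLocalization.isLocalization_isLocalization_atPrime_isLocalization P'.primeCompl
        (Localization.AtPrime Q) Q
    haveI : Algebra.FormallyEtale R' (Localization.AtPrime Q) :=
      Algebra.FormallyEtale.of_equiv
        ((IsLocalization.algEquiv Q'.primeCompl (Localization.AtPrime Q')
          (Localization.AtPrime Q)).restrictScalars R')
    haveI : Algebra.FormallyEtale R' A' := .of_isLocalization P.primeCompl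
    exact Algebra.FormallyEtale.of_restrictScalars (R := R') (A := A') (B := Localization.AtPrime Q)
  haveI : Algebra.FormallyEtale R' A' := .of_isLocalization P.primeCompl
  haveI : Algebra.IsEtaleAt R' P' := Algebra.FormallyEtale.comp R' A' C
  have h2 : (⟨P', inferInstance⟩ : PrimeSpectrum T) ∈ Algebra.unramifiedLocus R' T :=
    (Algebra.etaleLocus_eq_unramfiedLocus_inter_smoothLocus.le ‹Algebra.IsEtaleAt R' P'›).1
  haveI : Algebra.IsUnramifiedAt R' P' := h2
  haveI : Module.Flat A R' := inferInstance
  have h3 := EtStruct.isUnramifiedAt_of_flat_baseChange (A := A) (B := B) (A' := R') P'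
  haveI : Algebra.IsUnramifiedAt A q := by
    subst hq
    exact h3
  exact EtStruct.isEtaleAt_of_isUnramifiedAt_of_flat q

end Groth.Agent.PurityReg
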