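import Groth.Agent.PurityReg.Torsion
import Groth.Agent.FEtCat.SectionsFinite
import Groth.Agent.RegLoc.UFD
import Mathlib.RingTheory.Smooth.Flat

/-!
# Saturation of an algebra which is étale off the closed point of a regular local ring
-/

set_option autoImplicit false
set_option backward.isDefEq.respectTransparency.types false
set_option linter.style.haveILetI false
set_option maxHeartbeats 1600000
set_option synthInstance.maxHeartbeats 400000

noncomputable section

universe u

open IsLocalRing TensorProduct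

namespace Groth.Agent.PurityReg

variable {A : Type u} [CommRing A]

theorem exists_pow_smul_eq_zero {M : Type u} [AddCommGroup M] [Module A M] (a : A) {z : M}
    (h : (1 : Localization.Away a) ⊗ₜ[A] z = 0) : ∃ k : ℕ, a ^ k • z = 0 := by
  haveI : IsLocalizedModule (Submonoid.powers a) (TensorProduct.mk A (Localization.Away a) M 1) :=
    (isLocalizedModule_iff_isBaseChange (Submonoid.powers a) (Localization.Away a) _).mpr
      (TensorProduct.isBaseChange A M (Localization.Away a))
  obtain ⟨⟨t, k, rfl⟩, hk⟩ := (IsLocalizedModule.eq_zero_iff (Submonoid.powers a)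
    (TensorProduct.mk A (Localization.Away a) M 1)).mp h
  exact ⟨k, hk⟩

theorem one_tmul_quotient_eq_zero {x : A} {M : Type u} [AddCommGroup M] [Module A M] {z : M} :
    (1 : A ⧸ Ideal.span {x}) ⊗ₜ[A] z = 0 ↔ ∃ w, z = x • w := by
  rw [← (TensorProduct.quotTensorEquivQuotSMul M (Ideal.span {x})).map_eq_zero_iff]
  rw [show (1 : A ⧸ Ideal.span {x}) = Ideal.Quotient.mk _ 1 from (map_one _).symm,
    TensorProduct.quotTensorEquivQuotSMul_mk_tmul, one_smul, Submodule.Quotient.mk_eq_zero,
    Submodule.ideal_span_singleton_smul, Submodule.mem_smul_pointwise_iff_exists]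
  exact ⟨fun ⟨w, _, hw⟩ => ⟨w, hw.symm⟩, fun ⟨w, hw⟩ => ⟨w, trivial, hw.symm⟩⟩

/-- The localisation of `(A/x) ⊗ B` is étale when that of `B` is. -/
theorem etale_quot_away {B : Type u} [CommRing B] [Algebra A B] (x a : A)
    [Algebra.Etale (Localization.Away a) (Localization.Away a ⊗[A] B)] :
    Algebra.Etale (Localization.Away (algebraMap A (A ⧸ Ideal.span {x}) a))
      (Localization.Away (algebraMap A (A ⧸ Ideal.span {x}) a) ⊗[A ⧸ Ideal.span {x}]
        ((A ⧸ Ideal.span {x}) ⊗[A] B)) := by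
  let A₀ := A ⧸ Ideal.span {x}
  let S := Localization.Away (algebraMap A A₀ a)
  have hu : IsUnit (algebraMap A S a) := by
    rw [IsScalarTower.algebraMap_apply A A₀ S]
    exact IsLocalization.Away.algebraMap_isUnit _
  letI : Algebra (Localization.Away a) S := (IsLocalization.Away.lift a hu).toAlgebra
  haveI : IsScalarTower A (Localization.Away a) S :=
    IsScalarTower.of_algebraMap_eq fun y => (IsLocalization.Away.lift_eq a hu y).symm
  let e₁ : S ⊗[Localization.Away a] (Localization.Away a ⊗[A] B) ≃ₐ[S] S ⊗[A] B :=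
    Algebra.TensorProduct.cancelBaseChange A (Localization.Away a) S S B
  let e₂ : S ⊗[A₀] (A₀ ⊗[A] B) ≃ₐ[S] S ⊗[A] B := Algebra.TensorProduct.cancelBaseChange A A₀ S S B
  exact Algebra.Etale.of_equiv (A := S ⊗[Localization.Away a] (Localization.Away a ⊗[A] B)) (e₁.trans e₂.symm)

variable [IsRegularLocalRing A]

/-- A finite torsion-free algebra, étale off the closed point, has a saturation. -/
theorem exists_saturation (hd : (2 : WithBot ℕ∞) ≤ ringKrullDim A) (B : Type u) [CommRing B] [Algebra A B]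
    [Module.Finite A B] (htf : ∀ c : A, c ≠ 0 → ∀ z : B, c • z = 0 → z = 0)
    (het : ∀ a ∈ maximalIdeal A, a ≠ 0 →
      Algebra.Etale (Localization.Away a) (Localization.Away a ⊗[A] B)) :
    ∃ (C : Type u) (_ : CommRing C) (_ : Algebra A C) (ι : B →ₐ[A] C),
      Function.Injective ι ∧ Module.Finite A C ∧
      (∀ c : A, c ≠ 0 → ∀ z : C, c • z = 0 → z = 0) ∧
      (∀ c : A, c ≠ 0 → ∀ z : C, (∀ a ∈ maximalIdeal A, ∃ k : ℕ, ∃ w, a ^ k • z = c • w) →
        ∃ w, z = c • w) ∧
      (∀ a ∈ maximalIdeal A, a ≠ 0 →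
        Algebra.Etale (Localization.Away a) (Localization.Away a ⊗[A] C)) ∧
      ∀ (y : C), ∀ a ∈ maximalIdeal A, ∃ (k : ℕ) (z : B), a ^ k • y = ι z := by
  classical
  haveI := RegLoc.isDomain A
  haveI := RegLoc.UFD.uniqueFactorizationMonoid A
  let K := FractionRing A
  let L := K ⊗[A] B
  let j : B →ₐ[A] L := Algebra.TensorProduct.includeRight
  have hK : ∀ c : A, c ≠ 0 → ∀ y : L, c • y = 0 → y = 0 := fun c hc y hy => by
    rw [← algebraMap_smul K c y] at hy
    exact (smul_eq_zero.mp hy).resolve_left ((map_ne_zero_iff _ (IsFractionRing.injective A K)).mpr hc)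
  have hj : Function.Injective j := by
    rw [injective_iff_map_eq_zero]
    intro z hz
    haveI : IsLocalizedModule (nonZeroDivisors A) (TensorProduct.mk A K B 1) :=
      (isLocalizedModule_iff_isBaseChange (nonZeroDivisors A) K _).mpr (TensorProduct.isBaseChange A B K)
    obtain ⟨c, hc⟩ := (IsLocalizedModule.eq_zero_iff (nonZeroDivisors A) (TensorProduct.mk A K B 1)).mp hz
    exact htf c (nonZeroDivisors.coe_ne_zero c) z hc
  let C : Subalgebra A L :=
    { carrier := {y | ∀ a ∈ maximalIdeal A, ∃ (k : ℕ) (z : B), a ^ k • y = j z}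
      mul_mem' := fun {y y'} hy hy' a ha => by
        obtain ⟨k, z, hz⟩ := hy a ha
        obtain ⟨k', z', hz'⟩ := hy' a ha
        exact ⟨k + k', z * z', by rw [map_mul, ← hz, ← hz', smul_mul_smul_comm, pow_add]⟩
      add_mem' := fun {y y'} hy hy' a ha => by
        obtain ⟨k, z, hz⟩ := hy a ha
        obtain ⟨k', z', hz'⟩ := hy' a ha
        exact ⟨k + k', a ^ k' • z + a ^ k • z', by
          rw [map_add, map_smul, map_smul, ← hz, ← hz', smul_smul, smul_smul, smul_add, ← pow_add, ← pow_add,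
            Nat.add_comm k' k]⟩
      algebraMap_mem' := fun c a _ => ⟨0, algebraMap A B c, by rw [pow_zero, one_smul, AlgHom.commutes]⟩ }
  let ι : B →ₐ[A] C := j.codRestrict C fun z a _ => ⟨0, z, by rw [pow_zero, one_smul]⟩
  have hι : Function.Injective ι := fun p q h => hj (congrArg Subtype.val h)
  have hCB : ∀ (y : C), ∀ a ∈ maximalIdeal A, ∃ (k : ℕ) (z : B), a ^ k • y = ι z := fun y a ha => by
    obtain ⟨k, z, hz⟩ := y.2 a ha
    exact ⟨k, z, Subtype.ext hz⟩
  have hbij : ∀ a ∈ maximalIdeal A,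
      Function.Bijective (Algebra.TensorProduct.map (AlgHom.id (Localization.Away a) (Localization.Away a)) ι) := by
    intro a ha
    refine ⟨Module.Flat.lTensor_preserves_injective_linearMap (M := Localization.Away a) ι.toLinearMap hι, fun t => ?_⟩
    induction t using TensorProduct.induction_on with
    | zero => exact ⟨0, map_zero _⟩
    | add p q hp hq =>
      obtain ⟨p', rfl⟩ := hp
      obtain ⟨q', rfl⟩ := hq
      exact ⟨p' + q', map_add _ _ _⟩
    | tmul s y =>
      obtain ⟨k, z, hz⟩ := hCB y a ha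
      obtain ⟨v, hv⟩ := ((IsLocalization.Away.algebraMap_isUnit (S := Localization.Away a) a).pow k).exists_right_inv
      refine ⟨(s * v) ⊗ₜ[A] z, ?_⟩
      rw [Algebra.TensorProduct.map_tmul, AlgHom.id_apply, ← hz, ← TensorProduct.smul_tmul, Algebra.smul_def, map_pow]
      congr 1
      linear_combination s * hv
  have hetC : ∀ a ∈ maximalIdeal A, a ≠ 0 →
      Algebra.Etale (Localization.Away a) (Localization.Away a ⊗[A] C) := fun a ha ha0 =>
    haveI := het a ha ha0
    Algebra.Etale.of_equiv (A := Localization.Away a ⊗[A] B) (AlgEquiv.ofBijective _ (hbij a ha))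
  have htfC : ∀ c : A, c ≠ 0 → ∀ z : C, c • z = 0 → z = 0 := fun c hc z h =>
    Subtype.ext (hK c hc z.1 (congrArg Subtype.val h))
  obtain ⟨a₀, ha₀, ha₀0⟩ : ∃ a ∈ maximalIdeal A, a ≠ 0 := by
    refine Submodule.exists_mem_ne_zero_of_ne_bot fun h => ?_
    have h0 := ringKrullDim_eq_zero_of_isField ((IsLocalRing.isField_iff_maximalIdeal_eq).mpr h)
    rw [h0] at hd
    exact absurd hd (by norm_num)
  have hdepth : 2 ≤ LocCoh.depth A A := by
    have hCM := (Depth.isCohenMacaulayLocalRing_of_isRegularLocalRing (R := A)).supportDim_eq_depth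
    rw [Module.supportDim_self_eq_ringKrullDim] at hCM
    rw [hCM] at hd
    exact WithBot.coe_le_coe.mp hd
  haveI hfin : Module.Finite A C := by
    refine FEtCat.SectionsFinite.finite (S := C) hdepth (ι := {a : A // a ∈ maximalIdeal A ∧ a ≠ 0}) (·.1)
      (fun i => i.2.2) (fun q hq h => ?_) ⟨a₀, ha₀, ha₀0⟩ (fun i => ?_) fun s hs => ?_
    · refine le_antisymm (le_maximalIdeal hq.ne_top) fun x hx => ?_
      by_cases h0 : x = 0
      · exact h0 ▸ q.zero_mem
      · exact h ⟨x, hx, h0⟩
    · exact ⟨Module.Finite.equiv (AlgEquiv.ofBijective _ (hbij i.1 i.2.1)).toLinearEquiv, hetC i.1 i.2.1 i.2.2⟩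
    · have h1 : (1 : Localization.Away a₀) ⊗ₜ[A] s = 0 := hs ⟨a₀, ha₀, ha₀0⟩
      obtain ⟨k, hk⟩ := exists_pow_smul_eq_zero (M := C) a₀ h1
      exact htfC _ (pow_ne_zero k ha₀0) s hk
  refine ⟨C, inferInstance, inferInstance, ι, hι, hfin, htfC, fun c hc z h => ?_, hetC, hCB⟩
  let y : L := (algebraMap A K c)⁻¹ • (z : L)
  have hc0 : algebraMap A K c ≠ 0 := (map_ne_zero_iff _ (IsFractionRing.injective A K)).mpr hc
  have hy : c • y = z.1 := by rw [← algebraMap_smul K c y, smul_inv_smul₀ hc0]
  have hyC : y ∈ C := fun a ha => by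
    obtain ⟨k, w, hw⟩ := h a ha
    have hyw : a ^ k • y = w.1 := sub_eq_zero.mp (hK c hc _ (by
      rw [smul_sub, smul_comm, hy]
      exact sub_eq_zero.mpr (congrArg Subtype.val hw)))
    obtain ⟨k', z', hz'⟩ := w.2 a ha
    exact ⟨k' + k, z', by rw [pow_add, mul_smul, hyw, hz']⟩
  exact ⟨⟨y, hyC⟩, Subtype.ext hy.symm⟩

end Groth.Agent.PurityReg
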