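import Groth.Agent.HartogsAffine.Basic
import Groth.Agent.FEtCat.Basic
import Groth.Agent.RegLoc.Serre
import Mathlib.RingTheory.Flat.EquationalCriterion
import Mathlib.RingTheory.Etale.Basic
import Mathlib.RingTheory.Smooth.Flat
import Mathlib.Algebra.Module.FinitePresentation
import Mathlib.LinearAlgebra.Dual.Lemmas
import Mathlib.AlgebraicGeometry.Morphisms.Etale

/-!
# Sections of a finite étale cover over a complement of depth two

For an affine Noetherian `W`, an open `D` with stalks of depth `≥ 2` outside it and `V` finite étale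
over `D`: the ring `S` of sections of `V` is a finite `Γ(W)`-module (`finite_appTop`), and a regular
pair at a point outside `D` stays regular on `S` (`exists_regular_pair`).
-/

set_option autoImplicit false
universe u

open AlgebraicGeometry CategoryTheory CategoryTheory.Limits TopologicalSpace Opposite

namespace Groth.Agent.PurityReg

set_option backward.isDefEq.respectTransparency.types false
set_option linter.style.haveILetI false
set_option maxHeartbeats 800000

noncomputable section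

theorem exists_unit_smul_eq {A M : Type u} [CommRing A] [AddCommGroup M] [Module A M] [Module.Flat A M]
    (a b u : A) (hu : ∀ x, a ∣ b * x → a ∣ u * x) (m m' : M) (h : b • m = a • m') :
    ∃ w, u • m = a • w := by
  obtain ⟨k, c, y, hxy, hrel⟩ := Module.Flat.isTrivialRelation_of_sum_smul_eq_zero
    (f := ![b, -a]) (x := ![m, m']) (by simp [Fin.sum_univ_two, h])
  have hd : ∀ j, a ∣ u * c 0 j := fun j => by
    refine hu _ ⟨c 1 j, ?_⟩
    have := hrel j
    simp [Fin.sum_univ_two] at this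
    linear_combination this
  choose e he using hd
  refine ⟨∑ j, e j • y j, ?_⟩
  rw [show m = ∑ j, c 0 j • y j from hxy 0, Finset.smul_sum, Finset.smul_sum]
  exact Finset.sum_congr rfl fun j _ => by rw [smul_smul, smul_smul, he j]

theorem flat_and_fp_of_etale {R S : Type u} [CommRing R] [CommRing S] (φ : R →+* S) (hφ : φ.Etale) :
    φ.Flat ∧ φ.FinitePresentation := by
  letI := φ.toAlgebra
  haveI : Algebra.Etale R S := hφ
  exact ⟨(inferInstance : Module.Flat R S), (inferInstance : Algebra.FinitePresentation R S)⟩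

variable {W : Scheme.{u}} [IsAffine W] [IsLocallyNoetherian W] (D : W.Opens) (V : FEt.Cat (D : Scheme.{u}))

/-- The structure map to `W`. -/
abbrev toW : V.left ⟶ W := V.hom ≫ D.ι

instance : QuasiCompact (toW D V) := inferInstance

theorem exists_cover : ∃ s : Finset Γ(W, ⊤), (D : Set W) = ⋃ f ∈ s, (W.basicOpen f : Set W) := by
  haveI : IsNoetherian W := { }
  have hDc : IsCompact (D : Set W) := NoetherianSpace.isCompact _
  obtain ⟨t, ht⟩ := hDc.elim_finite_subcover (fun f : {f : Γ(W, ⊤) // W.basicOpen f ≤ D} => (W.basicOpen f.1 : Set W))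
    (fun f => (W.basicOpen f.1).2) fun x hx => by
      obtain ⟨f, hf, hxf⟩ := (isAffineOpen_top W).exists_basicOpen_le (V := D) ⟨x, hx⟩ trivial
      exact Set.mem_iUnion.mpr ⟨⟨f, hf⟩, hxf⟩
  classical
  refine ⟨t.image Subtype.val, Set.Subset.antisymm (fun x hx => ?_) (fun x hx => ?_)⟩
  · obtain ⟨f, hf, hxf⟩ := Set.mem_iUnion₂.mp (ht hx)
    exact Set.mem_iUnion₂.mpr ⟨f.1, Finset.mem_image_of_mem _ hf, hxf⟩
  · obtain ⟨f, hf, hxf⟩ := Set.mem_iUnion₂.mp hx
    obtain ⟨g, -, rfl⟩ := Finset.mem_image.mp hf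
    exact g.2 hxf

theorem finite_app_basicOpen {f : Γ(W, ⊤)} (hf : W.basicOpen f ≤ D) :
    ((toW D V).app (W.basicOpen f)).hom.Finite ∧ ((toW D V).app (W.basicOpen f)).hom.Flat ∧
      ((toW D V).app (W.basicOpen f)).hom.FinitePresentation := by
  have hB := (isAffineOpen_top W).basicOpen f
  have hB' : IsAffineOpen (D.ι ⁻¹ᵁ W.basicOpen f) :=
    hB.preimage_of_isOpenImmersion D.ι (by rw [Scheme.Opens.opensRange_ι]; exact hf)
  haveI : IsIso (D.ι.app (W.basicOpen f)) := D.ι.isIso_app _ (by rw [Scheme.Opens.opensRange_ι]; exact hf)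
  have hfin : (V.hom.app (D.ι ⁻¹ᵁ W.basicOpen f)).hom.Finite := IsFinite.finite_app _ _ hB'
  have het : (V.hom.app (D.ι ⁻¹ᵁ W.basicOpen f)).hom.Etale := by
    rw [Scheme.Hom.app_eq_appLE]
    haveI : IsFinite V.hom := V.prop.1
    exact HasRingHomProperty.appLE (P := @Etale) V.hom V.prop.2 ⟨_, hB'⟩ ⟨_, hB'.preimage V.hom⟩ le_rfl
  have hc : (toW D V).app (W.basicOpen f) = D.ι.app (W.basicOpen f) ≫ V.hom.app (D.ι ⁻¹ᵁ W.basicOpen f) :=
    Scheme.Hom.comp_app _ _ _
  rw [hc]
  have hb := ConcreteCategory.bijective_of_isIso (D.ι.app (W.basicOpen f))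
  refine ⟨hfin.comp (RingHom.Finite.of_surjective _ hb.2),
    RingHom.Flat.comp (RingHom.Flat.of_bijective hb) ?_, RingHom.FinitePresentation.comp ?_ ?_⟩
  · exact (flat_and_fp_of_etale _ het).1
  · exact (flat_and_fp_of_etale _ het).2
  · exact RingHom.FinitePresentation.of_bijective hb

/-- The ring of sections over a basic open is finite projective over the base and is a localization of
the ring of all sections. -/
theorem basicOpen_data {f : Γ(W, ⊤)} (hf : W.basicOpen f ≤ D) :
    letI := (toW D V).appTop.hom.toAlgebra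
    ∃ (_ : Algebra Γ(W, ⊤) Γ(V.left, toW D V ⁻¹ᵁ W.basicOpen f))
      (_ : Algebra Γ(W, W.basicOpen f) Γ(V.left, toW D V ⁻¹ᵁ W.basicOpen f))
      (_ : IsScalarTower Γ(W, ⊤) Γ(W, W.basicOpen f) Γ(V.left, toW D V ⁻¹ᵁ W.basicOpen f))
      (L : Γ(V.left, ⊤) →ₗ[Γ(W, ⊤)] Γ(V.left, toW D V ⁻¹ᵁ W.basicOpen f)),
      IsLocalizedModule (Submonoid.powers f) L ∧
      (∀ s, L s = (V.left.presheaf.map (homOfLE (le_top : toW D V ⁻¹ᵁ W.basicOpen f ≤ ⊤)).op).hom s) ∧
      Module.Finite Γ(W, W.basicOpen f) Γ(V.left, toW D V ⁻¹ᵁ W.basicOpen f) ∧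
      Module.Projective Γ(W, W.basicOpen f) Γ(V.left, toW D V ⁻¹ᵁ W.basicOpen f) := by
  letI := (toW D V).appTop.hom.toAlgebra
  let O := toW D V ⁻¹ᵁ W.basicOpen f
  let A' := Γ(W, W.basicOpen f)
  obtain ⟨h1, h2, h3⟩ := finite_app_basicOpen D V hf
  letI a1 : Algebra A' Γ(V.left, O) := ((toW D V).app (W.basicOpen f)).hom.toAlgebra
  letI a2 : Algebra Γ(W, ⊤) Γ(V.left, O) :=
    (((toW D V).app (W.basicOpen f)).hom.comp (algebraMap Γ(W, ⊤) A')).toAlgebra
  haveI a3 : IsScalarTower Γ(W, ⊤) A' Γ(V.left, O) := .of_algebraMap_eq' rfl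
  letI a4 : Algebra Γ(V.left, ⊤) Γ(V.left, O) :=
    (V.left.presheaf.map (homOfLE (le_top : O ≤ ⊤)).op).hom.toAlgebra
  haveI a5 : IsScalarTower Γ(W, ⊤) Γ(V.left, ⊤) Γ(V.left, O) := .of_algebraMap_eq fun r => by
    show ((toW D V).app (W.basicOpen f)).hom ((W.presheaf.map (homOfLE (le_top : W.basicOpen f ≤ ⊤)).op).hom r) =
      (V.left.presheaf.map (homOfLE (le_top : O ≤ ⊤)).op).hom ((toW D V).appTop.hom r)
    rw [← CommRingCat.comp_apply, (toW D V).naturality]
    rfl
  haveI : QuasiCompact (toW D V) := inferInstance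
  haveI : QuasiSeparated (toW D V) := inferInstance
  haveI : CompactSpace V.left := (quasiCompact_iff_compactSpace (toW D V)).mp inferInstance
  haveI : QuasiSeparatedSpace V.left := (quasiSeparated_iff_quasiSeparatedSpace (toW D V)).mp inferInstance
  have hO : O = V.left.basicOpen ((toW D V).appTop.hom f) := Scheme.preimage_basicOpen _ f
  have hloc : IsLocalization.Away (algebraMap Γ(W, ⊤) Γ(V.left, ⊤) f) Γ(V.left, O) := by
    have aux : ∀ (O' : V.left.Opens), O' = V.left.basicOpen ((toW D V).appTop.hom f) →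
        letI : Algebra Γ(V.left, ⊤) Γ(V.left, O') := (V.left.presheaf.map (homOfLE (le_top : O' ≤ ⊤)).op).hom.toAlgebra
        IsLocalization.Away ((toW D V).appTop.hom f) Γ(V.left, O') := by
      rintro O' rfl
      exact isLocalization_basicOpen_of_qcqs (X := V.left) (U := ⊤) isCompact_univ
        (isQuasiSeparated_univ (α := V.left)) ((toW D V).appTop.hom f)
    exact aux O hO
  haveI : IsLocalization (Algebra.algebraMapSubmonoid Γ(V.left, ⊤) (Submonoid.powers f)) Γ(V.left, O) := by
    rw [Algebra.algebraMapSubmonoid_powers]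
    exact hloc
  refine ⟨a2, a1, a3, (IsScalarTower.toAlgHom Γ(W, ⊤) Γ(V.left, ⊤) Γ(V.left, O)).toLinearMap,
    inferInstance, fun s => rfl, h1, ?_⟩
  haveI : Module.Flat A' Γ(V.left, O) := h2
  haveI : Algebra.FinitePresentation A' Γ(V.left, O) := h3
  haveI : Module.Finite A' Γ(V.left, O) := h1
  haveI : Module.FinitePresentation A' Γ(V.left, O) := Module.FinitePresentation.of_finite_of_finitePresentation A' _
  exact Module.Flat.projective_of_finitePresentation

variable (h : ∀ x : W, x ∉ D → (2 : ℕ∞) ≤ LocCoh.depth (W.presheaf.stalk x) (W.presheaf.stalk x))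

include h

/-- The sections of `V` form a finite module over the global functions. -/
theorem finite_appTop : (toW D V).appTop.hom.Finite := by
  classical
  letI := (toW D V).appTop.hom.toAlgebra
  let A := Γ(W, ⊤)
  let S := Γ(V.left, ⊤)
  haveI : IsNoetherianRing A := IsLocallyNoetherian.component_noetherian ⟨⊤, isAffineOpen_top W⟩
  obtain ⟨F, hF⟩ := exists_cover D
  have hle : ∀ i : F, W.basicOpen i.1 ≤ D := fun i => fun x hx => hF.ge (Set.mem_biUnion i.2 hx)
  have hcover : D ≤ iSup fun i : F => W.basicOpen i.1 := fun x hx => by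
    obtain ⟨f, hf, hxf⟩ := Set.mem_iUnion₂.mp (hF.le hx)
    exact Opens.mem_iSup.mpr ⟨⟨f, hf⟩, hxf⟩
  choose a2 a1 a3 L hL hLres hfin hproj using fun i : F => basicOpen_data D V (hle i)
  -- a finite submodule generating over every basic open
  have hgen : ∀ i : F, ∃ N : Submodule A S, N.FG ∧ ∀ s : S, ∃ k, i.1 ^ k • s ∈ N := by
    intro i
    letI := a2 i
    letI := a1 i
    haveI := a3 i
    haveI := hfin i
    haveI := hL i
    haveI := (isAffineOpen_top W).isLocalization_basicOpen i.1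
    obtain ⟨G, hG⟩ := (Module.finite_def.mp (hfin i))
    choose num hnum using fun m : Γ(V.left, toW D V ⁻¹ᵁ W.basicOpen i.1) =>
      IsLocalizedModule.surj (Submonoid.powers i.1) (L i) m
    refine ⟨Submodule.span A ((fun m => (num m).1) '' (G : Set _)), Submodule.fg_span (G.finite_toSet.image _),
      fun s => ?_⟩
    have hmem : L i s ∈ Submodule.span Γ(W, W.basicOpen i.1) (G : Set _) := hG ▸ Submodule.mem_top
    suffices ∀ m ∈ Submodule.span Γ(W, W.basicOpen i.1) (G : Set _), ∃ k, ∃ n ∈ Submodule.span A ((fun m => (num m).1) '' (G : Set _)),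
        i.1 ^ k • m = L i n by
      obtain ⟨k, n, hn, e⟩ := this _ hmem
      rw [← map_smul] at e
      obtain ⟨⟨_, l, rfl⟩, hl⟩ := (IsLocalizedModule.eq_iff_exists (Submonoid.powers i.1) (L i)).mp e
      refine ⟨l + k, ?_⟩
      rw [pow_add, mul_smul]
      rw [show i.1 ^ l • i.1 ^ k • s = i.1 ^ l • n from hl]
      exact Submodule.smul_mem _ _ hn
    intro m hm
    induction hm using Submodule.span_induction with
    | mem m hm =>
      obtain ⟨k, hk⟩ := (num m).2.2
      refine ⟨k, (num m).1, Submodule.subset_span ⟨m, hm, rfl⟩, ?_⟩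
      rw [← hnum m, Submonoid.smul_def]
      exact congrArg (· • m) hk
    | zero => exact ⟨0, 0, Submodule.zero_mem _, by rw [pow_zero]; exact (one_smul _ _).trans (map_zero _).symm⟩
    | add m m' _ _ hm hm' =>
      obtain ⟨k, n, hn, e⟩ := hm
      obtain ⟨k', n', hn', e'⟩ := hm'
      refine ⟨k + k', i.1 ^ k' • n + i.1 ^ k • n', Submodule.add_mem _ (Submodule.smul_mem _ _ hn) (Submodule.smul_mem _ _ hn'), ?_⟩
      rw [map_add, map_smul, map_smul, ← e, ← e', smul_smul, smul_smul, smul_add, ← pow_add, ← pow_add,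
        Nat.add_comm k' k]
    | smul c m _ hm =>
      obtain ⟨k, n, hn, e⟩ := hm
      obtain ⟨⟨a, ⟨_, l, rfl⟩⟩, hl⟩ := IsLocalization.surj (Submonoid.powers i.1) c
      refine ⟨l + k, a • n, Submodule.smul_mem _ _ hn, ?_⟩
      rw [map_smul, ← e, pow_add, mul_smul, smul_comm (i.1 ^ k) c m, ← smul_assoc (i.1 ^ l) c,
        ← algebraMap_smul Γ(W, W.basicOpen i.1) a]
      congr 1
      rw [Algebra.smul_def, mul_comm]
      exact hl
  choose Ni hNi hNmem using hgen
  let N : Submodule A S := ⨆ i, Ni i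
  haveI : Module.Finite A N := Module.Finite.iff_fg.mpr (Submodule.fg_iSup _ hNi)
  haveI : Module.FinitePresentation A N := Module.finitePresentation_of_finite A N
  have hN : ∀ (i : F) (s : S), ∃ k, i.1 ^ k • s ∈ N := fun i s => by
    obtain ⟨k, hk⟩ := hNmem i s
    exact ⟨k, le_iSup Ni i hk⟩
  let res : ∀ i : F, A →+* Γ(W, W.basicOpen i.1) := fun i =>
    (W.presheaf.map (homOfLE (le_top : W.basicOpen i.1 ≤ ⊤)).op).hom
  have hunit : ∀ (i : F) (k : ℕ), IsUnit (res i (i.1 ^ k)) := fun i k => by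
    rw [map_pow]
    exact (RingedSpace.isUnit_res_basicOpen _ i.1).pow k
  have hinj : ∀ c : A, (∀ i, res i c = 0) → c = 0 := fun c hc => by
    refine (HartogsAffine.bijective_res D h).1 ?_
    rw [map_zero]
    refine W.sheaf.eq_of_locally_eq' (fun i : F => W.basicOpen i.1) D (fun i => homOfLE (hle i)) hcover _ _
      fun i => ?_
    refine Eq.trans ?_ (map_zero (W.presheaf.map (homOfLE (hle i)).op).hom).symm
    refine Eq.trans ?_ (hc i)
    show (W.presheaf.map _).hom ((W.presheaf.map (homOfLE (le_top : D ≤ ⊤)).op).hom c) = _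
    rw [← CommRingCat.comp_apply, ← W.presheaf.map_comp]
    rfl
  -- extension of a functional
  let Q : (N →ₗ[A] A) → S → A → Prop := fun φ s c =>
    ∀ i : F, ∃ k₀, ∀ k ≥ k₀, ∃ hk : i.1 ^ k • s ∈ N, i.1 ^ k * c = φ ⟨_, hk⟩
  have huniq : ∀ φ s c c', Q φ s c → Q φ s c' → c = c' := by
    intro φ s c c' hc hc'
    refine sub_eq_zero.mp (hinj _ fun i => ?_)
    obtain ⟨k, hk⟩ := hc i
    obtain ⟨k', hk'⟩ := hc' i
    obtain ⟨_, e⟩ := hk (max k k') (le_max_left _ _)
    obtain ⟨_, e'⟩ := hk' (max k k') (le_max_right _ _)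
    have e2 : i.1 ^ max k k' * (c - c') = 0 := by rw [mul_sub, e, e', sub_self]
    have e3 := congrArg (res i) e2
    rw [map_mul, map_zero] at e3
    exact (hunit i _).mul_right_eq_zero.mp e3
  have hex : ∀ φ s, ∃ c, Q φ s c := by
    intro φ s
    choose k hk using fun i => hN i s
    obtain ⟨σ, hσ⟩ : ∃ σ : ∀ i : F, Γ(W, W.basicOpen i.1), ∀ i, res i (i.1 ^ k i) * σ i = res i (φ ⟨_, hk i⟩) :=
      ⟨fun i => ↑(hunit i (k i)).unit⁻¹ * res i (φ ⟨_, hk i⟩), fun i => by rw [← mul_assoc, IsUnit.mul_val_inv, one_mul]⟩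
    have hcompat : TopCat.Presheaf.IsCompatible W.sheaf.1 (fun i : F => W.basicOpen i.1) σ := by
      intro i j
      let O := W.basicOpen i.1 ⊓ W.basicOpen j.1
      let ri := (W.presheaf.map (Opens.infLELeft (W.basicOpen i.1) (W.basicOpen j.1)).op).hom
      let rj := (W.presheaf.map (Opens.infLERight (W.basicOpen i.1) (W.basicOpen j.1)).op).hom
      have hcr : ∀ a, ri (res i a) = rj (res j a) := fun a => by
        show (W.presheaf.map _).hom ((W.presheaf.map _).hom a) = (W.presheaf.map _).hom ((W.presheaf.map _).hom a)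
        rw [← CommRingCat.comp_apply, ← CommRingCat.comp_apply, ← W.presheaf.map_comp, ← W.presheaf.map_comp]
        rfl
      show ri (σ i) = rj (σ j)
      have hu : IsUnit (ri (res i (i.1 ^ k i)) * ri (res i (j.1 ^ k j))) :=
        ((hunit i (k i)).map ri).mul (by rw [hcr]; exact (hunit j (k j)).map rj)
      refine hu.mul_left_cancel ?_
      have e1 : φ (j.1 ^ k j • ⟨_, hk i⟩) = φ (i.1 ^ k i • ⟨_, hk j⟩) := congrArg φ (Subtype.ext (smul_comm _ _ _))
      rw [map_smul, map_smul, smul_eq_mul, smul_eq_mul] at e1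
      calc ri (res i (i.1 ^ k i)) * ri (res i (j.1 ^ k j)) * ri (σ i)
          = ri (res i (j.1 ^ k j * φ ⟨_, hk i⟩)) := by
            rw [map_mul (res i), map_mul]
            have h' := congrArg ri (hσ i)
            rw [map_mul] at h'
            linear_combination (ri (res i (j.1 ^ k j))) * h'
        _ = rj (res j (i.1 ^ k i * φ ⟨_, hk j⟩)) := by rw [e1, hcr]
        _ = ri (res i (i.1 ^ k i)) * ri (res i (j.1 ^ k j)) * rj (σ j) := by
            rw [map_mul (res j), map_mul, hcr, hcr]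
            have h' := congrArg rj (hσ j)
            rw [map_mul] at h'
            linear_combination -(rj (res j (i.1 ^ k i))) * h'
    obtain ⟨τ, hτ, -⟩ := W.sheaf.existsUnique_gluing' (fun i : F => W.basicOpen i.1) D
      (fun i => homOfLE (hle i)) hcover σ hcompat
    obtain ⟨c, rfl⟩ := (HartogsAffine.bijective_res D h).2 τ
    have hres : ∀ i, res i c = σ i := fun i => by
      refine Eq.trans ?_ (hτ i)
      show _ = (W.presheaf.map _).hom ((W.presheaf.map (homOfLE (le_top : D ≤ ⊤)).op).hom c)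
      rw [← CommRingCat.comp_apply, ← W.presheaf.map_comp]
      rfl
    refine ⟨c, fun i => ⟨k i, fun k' hk' => ?_⟩⟩
    obtain ⟨d, rfl⟩ := Nat.exists_eq_add_of_le hk'
    have hmem : i.1 ^ (k i + d) • s ∈ N := by
      rw [Nat.add_comm, pow_add, mul_smul]; exact N.smul_mem _ (hk i)
    refine ⟨hmem, ?_⟩
    refine sub_eq_zero.mp (hinj _ fun j => ?_)
    have e1 : φ (j.1 ^ k j • (⟨_, hmem⟩ : N)) = φ (i.1 ^ (k i + d) • ⟨_, hk j⟩) :=
      congrArg φ (Subtype.ext (smul_comm _ _ _))
    rw [map_smul, map_smul, smul_eq_mul, smul_eq_mul] at e1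
    refine (hunit j (k j)).mul_right_eq_zero.mp ?_
    rw [← map_mul, mul_sub, e1, map_sub, map_mul, map_mul, map_mul, hres, ← hσ j]
    ring
  choose θ hθ using hex
  let Θ : S →ₗ[A] ((N →ₗ[A] A) → A) :=
    { toFun := fun s φ => θ φ s
      map_add' := fun s t => funext fun φ => by
        refine huniq φ (s + t) _ _ (hθ φ _) fun i => ?_
        obtain ⟨k, hk⟩ := hθ φ s i
        obtain ⟨k', hk'⟩ := hθ φ t i
        refine ⟨max k k', fun l hl => ?_⟩
        obtain ⟨m, e⟩ := hk l (le_of_max_le_left hl)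
        obtain ⟨m', e'⟩ := hk' l (le_of_max_le_right hl)
        refine ⟨by rw [smul_add]; exact N.add_mem m m', ?_⟩
        rw [Pi.add_apply, mul_add, e, e', ← map_add]
        exact congrArg φ (Subtype.ext (smul_add _ _ _).symm)
      map_smul' := fun a s => funext fun φ => by
        refine huniq φ (a • s) _ _ (hθ φ _) fun i => ?_
        obtain ⟨k, hk⟩ := hθ φ s i
        refine ⟨k, fun l hl => ?_⟩
        obtain ⟨m, e⟩ := hk l hl
        refine ⟨by rw [smul_comm]; exact N.smul_mem _ m, ?_⟩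
        rw [RingHom.id_apply, Pi.smul_apply, smul_eq_mul, mul_left_comm, e, ← smul_eq_mul, ← map_smul]
        exact congrArg φ (Subtype.ext (smul_comm _ _ _)) }
  haveI : Module.Finite A (N →ₗ[A] A) := inferInstance
  obtain ⟨G, hG⟩ := Module.finite_def.mp ‹Module.Finite A (N →ₗ[A] A)›
  let Θ' : S →ₗ[A] (↥G → A) := (LinearMap.funLeft A A (Subtype.val : ↥G → (N →ₗ[A] A))).comp Θ
  refine Module.Finite.of_injective Θ' ((injective_iff_map_eq_zero _).mpr fun s hs => ?_)
  -- all functionals kill `s`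
  have hall : ∀ φ : N →ₗ[A] A, ∀ i : F, ∃ k, ∃ hk : i.1 ^ k • s ∈ N, φ ⟨_, hk⟩ = 0 := by
    intro φ i
    have hφ : φ ∈ Submodule.span A (G : Set (N →ₗ[A] A)) := hG ▸ Submodule.mem_top
    induction hφ using Submodule.span_induction with
    | mem φ hφ =>
      obtain ⟨k, hk⟩ := hθ φ s i
      obtain ⟨m, e⟩ := hk k le_rfl
      refine ⟨k, m, ?_⟩
      rw [← e, show θ φ s = 0 from congrFun hs ⟨φ, hφ⟩, mul_zero]
    | zero =>
      obtain ⟨k, hk⟩ := hN i s
      exact ⟨k, hk, rfl⟩
    | add φ ψ _ _ h1 h2 =>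
      obtain ⟨k, hk, e⟩ := h1
      obtain ⟨k', hk', e'⟩ := h2
      have hmem : i.1 ^ (k + k') • s ∈ N := by rw [Nat.add_comm, pow_add, mul_smul]; exact N.smul_mem _ hk
      refine ⟨k + k', hmem, ?_⟩
      have x1 : (⟨_, hmem⟩ : N) = i.1 ^ k' • ⟨_, hk⟩ := Subtype.ext (by
        show i.1 ^ (k + k') • s = i.1 ^ k' • i.1 ^ k • s
        rw [smul_smul, ← pow_add, Nat.add_comm])
      have x2 : (⟨_, hmem⟩ : N) = i.1 ^ k • ⟨_, hk'⟩ := Subtype.ext (by
        show i.1 ^ (k + k') • s = i.1 ^ k • i.1 ^ k' • s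
        rw [smul_smul, ← pow_add])
      have z1 : φ ⟨_, hmem⟩ = 0 := by rw [x1, map_smul, e, smul_zero]
      have z2 : ψ ⟨_, hmem⟩ = 0 := by rw [x2, map_smul, e', smul_zero]
      rw [LinearMap.add_apply, z1, z2, add_zero]
    | smul a φ _ h1 =>
      obtain ⟨k, hk, e⟩ := h1
      exact ⟨k, hk, by rw [LinearMap.smul_apply, e, smul_zero]⟩
  -- hence `s` vanishes over every basic open
  refine V.left.sheaf.eq_of_locally_eq' (fun i : F => toW D V ⁻¹ᵁ W.basicOpen i.1) ⊤
    (fun i => homOfLE le_top) (fun y _ => ?_) s 0 fun i => ?_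
  · obtain ⟨j, hj⟩ := Opens.mem_iSup.mp (hcover (V.hom y).2)
    exact Opens.mem_iSup.mpr ⟨j, hj⟩
  refine Eq.trans ?_ (map_zero (V.left.presheaf.map (homOfLE (le_top : toW D V ⁻¹ᵁ W.basicOpen i.1 ≤ ⊤)).op).hom).symm
  show (V.left.presheaf.map _).hom s = 0
  rw [← hLres i]
  letI := a2 i
  letI := a1 i
  haveI := a3 i
  haveI := hfin i
  haveI := hproj i
  haveI := hL i
  haveI := (isAffineOpen_top W).isLocalization_basicOpen i.1
  let Ai := Γ(W, W.basicOpen i.1)
  refine by_contra fun hne => ?_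
  obtain ⟨ψ, hψ⟩ := Module.Projective.exists_dual_ne_zero Ai hne
  obtain ⟨φ, t, hφ⟩ := Module.FinitePresentation.exists_lift_of_isLocalizedModule (Submonoid.powers i.1)
    (Algebra.linearMap A Ai) ((ψ.restrictScalars A).comp ((L i).comp N.subtype))
  obtain ⟨k, hk, e⟩ := hall φ i
  have h1 := LinearMap.congr_fun hφ ⟨_, hk⟩
  rw [LinearMap.comp_apply, e, map_zero, LinearMap.smul_apply, LinearMap.comp_apply, LinearMap.comp_apply,
    Submodule.subtype_apply, map_smul, map_smul, Submonoid.smul_def, smul_smul, LinearMap.restrictScalars_apply,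
    Algebra.smul_def] at h1
  refine hψ ((IsUnit.mul_right_eq_zero ?_).mp h1.symm)
  rw [map_mul]
  exact (IsLocalization.map_units Ai t).mul (IsLocalization.map_units Ai (⟨i.1 ^ k, k, rfl⟩ : Submonoid.powers i.1))

omit h in
/-- A regular pair of the local ring at `x` is regular on the sections, up to elements invertible at `x`. -/
theorem exists_regular_pair (x : W) (hx : (2 : ℕ∞) ≤ LocCoh.depth (W.presheaf.stalk x) (W.presheaf.stalk x)) :
    letI := (toW D V).appTop.hom.toAlgebra
    ∃ a b : Γ(W, ⊤), x ∉ W.basicOpen a ∧ x ∉ W.basicOpen b ∧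
      ∃ u : Γ(W, ⊤), x ∈ W.basicOpen u ∧ (∀ s : Γ(V.left, ⊤), a • s = 0 → u • s = 0) ∧
        ∀ s t : Γ(V.left, ⊤), b • s = a • t → ∃ w, u • s = a • w := by
  classical
  letI := (toW D V).appTop.hom.toAlgebra
  let A := Γ(W, ⊤)
  have hT := isAffineOpen_top W
  haveI : IsNoetherianRing A := IsLocallyNoetherian.component_noetherian ⟨⊤, hT⟩
  let St := W.presheaf.stalk x
  letI : Algebra A St := TopCat.Presheaf.algebra_section_stalk W.presheaf (⟨x, trivial⟩ : (⊤ : W.Opens))
  let p := (hT.primeIdealOf ⟨x, trivial⟩).asIdeal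
  haveI : IsLocalization.AtPrime St p := hT.isLocalization_stalk ⟨x, trivial⟩
  have hmem : ∀ g : A, x ∈ W.basicOpen g ↔ IsUnit (algebraMap A St g) := fun g => W.mem_basicOpen_top g x
  haveI : IsNoetherianRing St := IsLocalization.isNoetherianRing p.primeCompl St inferInstance
  obtain ⟨a', ha', b', hb', hreg, hdiv⟩ := RegLoc.Serre.exists_regular_pair hx
    (I := IsLocalRing.maximalIdeal St) fun q hq hle =>
    ((IsLocalRing.maximalIdeal.isMaximal St).eq_of_le hq.ne_top hle).symm
  obtain ⟨⟨a, sa⟩, hsa⟩ := IsLocalization.surj p.primeCompl a'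
  obtain ⟨⟨b, sb⟩, hsb⟩ := IsLocalization.surj p.primeCompl b'
  have hna : x ∉ W.basicOpen a := by
    rw [hmem, ← hsa]
    exact fun hu => (IsLocalRing.mem_maximalIdeal a').mp ha' (isUnit_of_mul_isUnit_left hu)
  have hnb : x ∉ W.basicOpen b := by
    rw [hmem, ← hsb]
    exact fun hu => (IsLocalRing.mem_maximalIdeal b').mp hb' (isUnit_of_mul_isUnit_left hu)
  have hua := IsLocalization.map_units St sa
  have hub := IsLocalization.map_units St sb
  -- a single multiplier for the colon ideals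
  have key : ∀ K I : Ideal A, (∀ z ∈ K, algebraMap A St z ∈ I.map (algebraMap A St)) →
      ∃ u : A, u ∉ p ∧ ∀ z ∈ K, u * z ∈ I := by
    intro K I hK
    obtain ⟨G, hG⟩ := IsNoetherian.noetherian K
    have : ∀ g ∈ G, ∃ u : A, u ∉ p ∧ u * g ∈ I := fun g hg =>
      (IsLocalization.algebraMap_mem_map_algebraMap_iff p.primeCompl _ _ _).mp (hK g (hG ▸ Submodule.subset_span hg))
    choose! u hu hug using this
    refine ⟨∏ g ∈ G, u g, fun hp => ?_, fun z hz => ?_⟩
    · obtain ⟨g, hg, hgp⟩ := (Ideal.IsPrime.prod_mem_iff (hp := inferInstanceAs p.IsPrime)).mp hp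
      exact hu g hg hgp
    · rw [← hG] at hz
      induction hz using Submodule.span_induction with
      | mem g hg =>
        rw [← Finset.prod_erase_mul G u hg, mul_assoc]
        exact I.mul_mem_left _ (hug g hg)
      | zero => simp
      | add _ _ _ _ h1 h2 => rw [mul_add]; exact I.add_mem h1 h2
      | smul c _ _ h1 => rw [smul_eq_mul, mul_left_comm]; exact I.mul_mem_left _ h1
  obtain ⟨u₁, hu₁, hu₁'⟩ := key (LinearMap.ker (LinearMap.mulLeft A a)) ⊥ fun z hz => by
    have e : algebraMap A St a * algebraMap A St z = 0 := by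
      rw [← map_mul, show a * z = 0 from hz, map_zero]
    rw [← hsa, mul_comm a' (algebraMap A St sa.1), mul_assoc] at e
    rw [Ideal.map_bot, Ideal.mem_bot]
    exact hreg.right_eq_zero_of_smul (hua.mul_right_eq_zero.mp e)
  obtain ⟨u₂, hu₂, hu₂'⟩ := key (Submodule.comap (LinearMap.mulLeft A b) (Ideal.span {a})) (Ideal.span {a})
    fun z hz => by
      obtain ⟨c, hc⟩ := Ideal.mem_span_singleton'.mp hz
      rw [LinearMap.mulLeft_apply] at hc
      have hd : a' ∣ b' * algebraMap A St z := by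
        refine hub.dvd_mul_left.mp ⟨algebraMap A St sa.1 * algebraMap A St c, ?_⟩
        have e := congrArg (algebraMap A St) hc
        rw [map_mul, map_mul, ← hsa, ← hsb] at e
        linear_combination -e
      obtain ⟨d, hd⟩ := hdiv _ hd
      rw [Ideal.map_span, Set.image_singleton, Ideal.mem_span_singleton, ← hsa, hd]
      exact ((hua.mul_right_dvd).mpr dvd_rfl).mul_right d
  refine ⟨a, b, hna, hnb, u₁ * u₂, ?_, ?_, ?_⟩
  · rw [hmem, map_mul]
    exact (IsLocalization.map_units St (⟨u₁, hu₁⟩ : p.primeCompl)).mul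
      (IsLocalization.map_units St (⟨u₂, hu₂⟩ : p.primeCompl))
  all_goals
    obtain ⟨F, hF⟩ := exists_cover D
    have hle : ∀ i : F, W.basicOpen i.1 ≤ D := fun i => fun y hy => hF.ge (Set.mem_biUnion i.2 hy)
    have hcov : (⊤ : V.left.Opens) ≤ iSup fun i : F => toW D V ⁻¹ᵁ W.basicOpen i.1 := fun y _ => by
      obtain ⟨f, hf, hyf⟩ := Set.mem_iUnion₂.mp (hF.le (V.hom y).2)
      exact Opens.mem_iSup.mpr ⟨⟨f, hf⟩, hyf⟩
    choose a2 a1 a3 L hL hLres hfin hproj using fun i : F => basicOpen_data D V (hle i)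
    have hflat : ∀ i, letI := a2 i; Module.Flat A Γ(V.left, toW D V ⁻¹ᵁ W.basicOpen i.1) := fun i => by
      letI := a2 i; letI := a1 i; haveI := a3 i; haveI := hproj i
      haveI := (isAffineOpen_top W).isLocalization_basicOpen i.1
      haveI : Module.Flat A Γ(W, W.basicOpen i.1) := IsLocalization.flat _ (Submonoid.powers i.1)
      exact Module.Flat.trans A Γ(W, W.basicOpen i.1) _
    have kill : ∀ (i : F), letI := a2 i; ∀ m : Γ(V.left, toW D V ⁻¹ᵁ W.basicOpen i.1),
        a • m = 0 → u₁ • m = 0 := fun i => by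
      letI := a2 i
      haveI := hflat i
      intro m hm
      obtain ⟨w, hw⟩ := exists_unit_smul_eq 0 a u₁ (fun z hz => by
        rw [zero_dvd_iff] at hz ⊢
        exact Ideal.mem_bot.mp (hu₁' z hz)) m 0 (by rw [hm, zero_smul])
      rw [hw, zero_smul]
  · intro s hs
    refine V.left.sheaf.eq_of_locally_eq' _ ⊤ (fun i => homOfLE le_top) hcov _ 0 fun i => ?_
    refine Eq.trans ?_ (map_zero (V.left.presheaf.map (homOfLE (le_top : toW D V ⁻¹ᵁ W.basicOpen i.1 ≤ ⊤)).op).hom).symm
    show (V.left.presheaf.map _).hom _ = 0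
    rw [← hLres i]
    letI := a2 i
    have e := kill i (L i s) (by rw [← map_smul, hs, map_zero])
    rw [map_smul, mul_smul, smul_comm, e, smul_zero]
  · intro s t hst
    have hw : ∀ i, letI := a2 i; ∃ w, u₂ • L i s = a • w := fun i => by
      letI := a2 i
      haveI := hflat i
      refine exists_unit_smul_eq a b u₂ (fun z hz => ?_) _ (L i t) (by rw [← map_smul, hst, map_smul])
      exact Ideal.mem_span_singleton.mp (hu₂' z (Ideal.mem_span_singleton.mpr hz))
    choose w hw using hw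
    let σ : ∀ i : F, Γ(V.left, toW D V ⁻¹ᵁ W.basicOpen i.1) := fun i => letI := a2 i; u₁ • w i
    have hcompat : TopCat.Presheaf.IsCompatible V.left.sheaf.1 (fun i : F => toW D V ⁻¹ᵁ W.basicOpen i.1) σ := by
      intro i j
      let O := toW D V ⁻¹ᵁ W.basicOpen i.1 ⊓ toW D V ⁻¹ᵁ W.basicOpen j.1
      letI aO : Algebra A Γ(V.left, O) :=
        ((V.left.presheaf.map (homOfLE (le_top : O ≤ ⊤)).op).hom.comp (toW D V).appTop.hom).toAlgebra
      have hlin : ∀ (l : F) (hl : O ≤ toW D V ⁻¹ᵁ W.basicOpen l.1), letI := a2 l;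
          ∀ (c : A) (m : Γ(V.left, toW D V ⁻¹ᵁ W.basicOpen l.1)),
          (V.left.presheaf.map (homOfLE hl).op).hom (c • m) = c • (V.left.presheaf.map (homOfLE hl).op).hom m := by
        intro l hl
        letI := a2 l
        intro c m
        have hc : algebraMap A Γ(V.left, toW D V ⁻¹ᵁ W.basicOpen l.1) c =
            (V.left.presheaf.map (homOfLE (le_top : toW D V ⁻¹ᵁ W.basicOpen l.1 ≤ ⊤)).op).hom ((toW D V).appTop.hom c) := by
          rw [← hLres l]
          rw [show (toW D V).appTop.hom c = c • (1 : Γ(V.left, ⊤)) from (Algebra.algebraMap_eq_smul_one c)]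
          rw [map_smul, hLres l, map_one, Algebra.algebraMap_eq_smul_one]
        rw [Algebra.smul_def, Algebra.smul_def, map_mul, hc, ← CommRingCat.comp_apply, ← V.left.presheaf.map_comp]
        rfl
      have hO1 : O ≤ toW D V ⁻¹ᵁ W.basicOpen i.1 := inf_le_left
      have hO2 : O ≤ toW D V ⁻¹ᵁ W.basicOpen j.1 := inf_le_right
      have hsame : (V.left.presheaf.map (homOfLE hO1).op).hom (L i s) = (V.left.presheaf.map (homOfLE hO2).op).hom (L j s) := by
        rw [hLres, hLres, ← CommRingCat.comp_apply, ← CommRingCat.comp_apply, ← V.left.presheaf.map_comp,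
          ← V.left.presheaf.map_comp]
        rfl
      show (V.left.presheaf.map (homOfLE hO1).op).hom (σ i) = (V.left.presheaf.map (homOfLE hO2).op).hom (σ j)
      rw [← sub_eq_zero, hlin i hO1, hlin j hO2, ← smul_sub]
      -- the difference is killed by `a`, hence by `u₁`
      have h0 : a • ((V.left.presheaf.map (homOfLE hO1).op).hom (w i) - (V.left.presheaf.map (homOfLE hO2).op).hom (w j)) = 0 := by
        rw [smul_sub, ← hlin i hO1, ← hlin j hO2, ← hw i, ← hw j, hlin i hO1, hlin j hO2, hsame, sub_self]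
      let d := (V.left.presheaf.map (homOfLE hO1).op).hom (w i) - (V.left.presheaf.map (homOfLE hO2).op).hom (w j)
      haveI := hflat i
      -- sections over the overlap form a localization of sections over the first open
      letI := a2 i
      haveI : CompactSpace V.left := (quasiCompact_iff_compactSpace (toW D V)).mp inferInstance
      haveI : QuasiSeparatedSpace V.left := (quasiSeparated_iff_quasiSeparatedSpace (toW D V)).mp inferInstance
      haveI : QuasiCompact (toW D V) := inferInstance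
      have hB : IsAffineOpen (toW D V ⁻¹ᵁ W.basicOpen i.1) := by
        haveI : IsFinite V.hom := V.prop.1
        show IsAffineOpen (V.hom ⁻¹ᵁ (D.ι ⁻¹ᵁ W.basicOpen i.1))
        exact (((isAffineOpen_top W).basicOpen i.1).preimage_of_isOpenImmersion D.ι
          (by rw [Scheme.Opens.opensRange_ι]; exact hle i)).preimage V.hom
      let g := (V.left.presheaf.map (homOfLE (le_top : toW D V ⁻¹ᵁ W.basicOpen i.1 ≤ ⊤)).op).hom ((toW D V).appTop.hom j.1)
      have hOeq : O = V.left.basicOpen g := by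
        rw [Scheme.basicOpen_res]
        exact congrArg (toW D V ⁻¹ᵁ W.basicOpen i.1 ⊓ ·) (Scheme.preimage_basicOpen (toW D V) j.1)
      letI aBO : Algebra Γ(V.left, toW D V ⁻¹ᵁ W.basicOpen i.1) Γ(V.left, O) :=
        (V.left.presheaf.map (homOfLE hO1).op).hom.toAlgebra
      haveI : IsLocalization.Away g Γ(V.left, O) := by
        have aux : ∀ (O' : V.left.Opens) (hO' : O' ≤ toW D V ⁻¹ᵁ W.basicOpen i.1), O' = V.left.basicOpen g →
            letI : Algebra Γ(V.left, toW D V ⁻¹ᵁ W.basicOpen i.1) Γ(V.left, O') :=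
              (V.left.presheaf.map (homOfLE hO').op).hom.toAlgebra
            IsLocalization.Away g Γ(V.left, O') := by
          rintro O' hO' rfl
          exact hB.isLocalization_basicOpen g
        exact aux O hO1 hOeq
      obtain ⟨⟨m, ⟨_, n, rfl⟩⟩, hm⟩ := IsLocalization.surj (Submonoid.powers g) d
      have hzero : algebraMap _ Γ(V.left, O) (a • m) = 0 := by
        show (V.left.presheaf.map (homOfLE hO1).op).hom (a • m) = 0
        rw [hlin i hO1, show (V.left.presheaf.map (homOfLE hO1).op).hom m = d * algebraMap _ _ (g ^ n) from hm.symm,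
          Algebra.smul_def, ← mul_assoc, ← Algebra.smul_def, h0, zero_mul]
      obtain ⟨⟨_, l, rfl⟩, hl⟩ := (IsLocalization.map_eq_zero_iff (Submonoid.powers g) _ _).mp hzero
      have h2 := kill i (g ^ l * m) (by rw [← mul_smul_comm]; exact hl)
      have h3 := congrArg (V.left.presheaf.map (homOfLE hO1).op).hom h2
      rw [hlin i hO1, map_mul, map_zero, show (V.left.presheaf.map (homOfLE hO1).op).hom m = d * algebraMap _ _ (g ^ n) from hm.symm,
        mul_left_comm, ← mul_smul_comm] at h3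
      refine (IsUnit.mul_left_eq_zero ?_).mp (show (u₁ • d) * (algebraMap _ Γ(V.left, O) (g ^ l) * algebraMap _ Γ(V.left, O) (g ^ n)) = 0 from ?_)
      · exact (IsLocalization.map_units _ (⟨g ^ l, l, rfl⟩ : Submonoid.powers g)).mul
          (IsLocalization.map_units _ (⟨g ^ n, n, rfl⟩ : Submonoid.powers g))
      · simp only [Algebra.smul_def] at h3 ⊢
        have hge : algebraMap Γ(V.left, toW D V ⁻¹ᵁ W.basicOpen i.1) Γ(V.left, O) (g ^ l) =
            (V.left.presheaf.map (homOfLE hO1).op).hom (g ^ l) := rfl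
        rw [hge]
        linear_combination h3
    obtain ⟨τ, hτ, -⟩ := V.left.sheaf.existsUnique_gluing' (fun i : F => toW D V ⁻¹ᵁ W.basicOpen i.1) ⊤
      (fun i => homOfLE le_top) hcov σ hcompat
    refine ⟨τ, V.left.sheaf.eq_of_locally_eq' _ ⊤ (fun i => homOfLE le_top) hcov _ _ fun i => ?_⟩
    show (V.left.presheaf.map _).hom _ = (V.left.presheaf.map _).hom _
    rw [← hLres i, ← hLres i]
    letI := a2 i
    rw [map_smul, map_smul, mul_smul, hw i, smul_comm,
      show L i τ = σ i from (hLres i τ).trans (hτ i)]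

end

end Groth.Agent.PurityReg
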