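import Groth.Agent.RegLoc.Serre
import Groth.Agent.RegLoc.MCM
import Groth.Agent.Depth.CM
import Groth.Agent.TraceEtale.Basic
import Mathlib.RingTheory.Etale.Basic
import Mathlib.LinearAlgebra.Trace

/-!
# Elementary torsion lemmas for the purity theorem

Modules are studied through their `𝔪`-power torsion.
-/

set_option autoImplicit false
set_option linter.style.haveILetI false
set_option maxHeartbeats 800000

noncomputable section

universe u

open IsLocalRing TensorProduct
open scoped Pointwise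

namespace Groth.Agent.PurityReg

variable {A : Type u} [CommRing A] [IsLocalRing A]

theorem forall_mem_of_forall_gen {r : ℕ} {g : Fin r → A} (hg : Ideal.span (Set.range g) = maximalIdeal A)
    {M : Type u} [AddCommGroup M] [Module A M] (N : Submodule A M) (z : M)
    (h : ∀ i, ∃ k : ℕ, g i ^ k • z ∈ N) : ∀ a ∈ maximalIdeal A, ∃ k : ℕ, a ^ k • z ∈ N := by
  intro a ha
  let I : Ideal A := N.comap (LinearMap.toSpanSingleton A M z)
  suffices a ∈ I.radical by
    obtain ⟨k, hk⟩ := this
    exact ⟨k, hk⟩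
  exact (hg ▸ Ideal.span_le.mpr (by rintro _ ⟨i, rfl⟩; exact h i) : maximalIdeal A ≤ I.radical) ha

theorem exists_gens [IsNoetherianRing A] :
    ∃ (r : ℕ) (g : Fin r → A), Ideal.span (Set.range g) = maximalIdeal A :=
  Submodule.fg_iff_exists_fin_generating_family.mp (IsNoetherian.noetherian (maximalIdeal A))

/-- In depth at least two, a compatible family of fractions on the punctured spectrum is global. -/
theorem glue [IsNoetherianRing A] (hA : 2 ≤ LocCoh.depth A A) {r : ℕ} {g : Fin r → A}
    (hg : Ideal.span (Set.range g) = maximalIdeal A) (n : Fin r → ℕ) (z : Fin r → A)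
    (hz : ∀ i j, ∃ k : ℕ, (g i * g j) ^ k * (g j ^ n j * z i - g i ^ n i * z j) = 0) :
    ∃ w : A, ∀ i, ∃ k : ℕ, g i ^ k * (z i - g i ^ n i * w) = 0 := by
  classical
  let J : Ideal A :=
    { carrier := {t | ∃ w, ∀ i, ∃ k : ℕ, g i ^ k * (t * z i - g i ^ n i * w) = 0}
      add_mem' := fun {s t} hs ht => by
        obtain ⟨w, hw⟩ := hs
        obtain ⟨w', hw'⟩ := ht
        refine ⟨w + w', fun i => ?_⟩
        obtain ⟨k, hk⟩ := hw i
        obtain ⟨k', hk'⟩ := hw' i
        exact ⟨k + k', by linear_combination g i ^ k' * hk + g i ^ k * hk'⟩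
      zero_mem' := ⟨0, fun i => ⟨0, by ring⟩⟩
      smul_mem' := fun c {t} ht => by
        obtain ⟨w, hw⟩ := ht
        refine ⟨c * w, fun i => ?_⟩
        obtain ⟨k, hk⟩ := hw i
        exact ⟨k, by rw [smul_eq_mul]; linear_combination c * hk⟩ }
  choose k hk using hz
  have hJ : ∀ q : Ideal A, q.IsPrime → J ≤ q → q = maximalIdeal A := fun q hq hle => by
    refine le_antisymm (le_maximalIdeal hq.ne_top) (hg ▸ Ideal.span_le.mpr ?_)
    rintro _ ⟨j, rfl⟩
    let K := Finset.univ.sup fun i => k i j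
    refine hq.mem_of_pow_mem (n j + K) (hle ⟨g j ^ K * z j, fun i => ⟨k i j, ?_⟩⟩)
    obtain ⟨d, hd⟩ : ∃ d, K = k i j + d :=
      Nat.exists_eq_add_of_le (Finset.le_sup (f := fun i => k i j) (Finset.mem_univ i))
    have := hk i j
    rw [hd]
    linear_combination g j ^ d * this
  obtain ⟨a, ⟨α, hα⟩, c, ⟨γ, hγ⟩, hreg, hdiv⟩ :=
    Groth.Agent.RegLoc.Serre.exists_regular_pair hA (I := J) hJ
  have hzero : ∀ t : A, (∀ i, ∃ m : ℕ, g i ^ m * t = 0) → t = 0 := fun t ht => by
    rw [Depth.depth_eq_idealDepth] at hA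
    obtain ⟨w, hw, hwreg⟩ := Depth.exists_isSMulRegular_of_forall_not_le
      (Depth.one_le_idealDepth_iff.mp (le_trans (by norm_num) hA))
    obtain ⟨m, hm⟩ := forall_mem_of_forall_gen hg ⊥ t (fun i => by simpa using ht i) w hw
    exact (hwreg.pow m) (show w ^ m • t = w ^ m • 0 by simpa using hm)
  obtain ⟨β, rfl⟩ : a ∣ α := hdiv α ⟨γ, by
    refine sub_eq_zero.mp (hzero _ fun i => ?_)
    obtain ⟨m, hm⟩ := hα i
    obtain ⟨m', hm'⟩ := hγ i
    exact ⟨m + m' + n i, by linear_combination a * g i ^ m * hm' - c * g i ^ m' * hm⟩⟩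
  refine ⟨β, fun i => ?_⟩
  obtain ⟨m, hm⟩ := hα i
  exact ⟨m, hreg (show a • (g i ^ m * (z i - g i ^ n i * β)) = a • 0 by
    rw [smul_eq_mul, smul_zero]; linear_combination hm)⟩

theorem glue_pi [IsNoetherianRing A] (hA : 2 ≤ LocCoh.depth A A) {r : ℕ} {g : Fin r → A}
    (hg : Ideal.span (Set.range g) = maximalIdeal A) {s : ℕ} (n : Fin r → ℕ) (z : Fin r → Fin s → A)
    (hz : ∀ i j l, ∃ k : ℕ, (g i * g j) ^ k * (g j ^ n j * z i l - g i ^ n i * z j l) = 0) :
    ∃ w : Fin s → A, ∀ i, ∃ k : ℕ, ∀ l, g i ^ k * (z i l - g i ^ n i * w l) = 0 := by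
  classical
  choose w hw using fun l => glue hA hg n (fun i => z i l) fun i j => hz i j l
  choose k hk using hw
  refine ⟨w, fun i => ⟨Finset.univ.sup fun l => k l i, fun l => ?_⟩⟩
  obtain ⟨d, hd⟩ := Nat.exists_eq_add_of_le (Finset.le_sup (f := fun l => k l i) (Finset.mem_univ l))
  rw [hd]
  linear_combination g i ^ d * hk l i

/-- Quotients of a regular local ring of dimension `≥ 3` by a nonzero element have depth `≥ 2`. -/
theorem two_le_depth_quotient {A : Type u} [CommRing A] [IsRegularLocalRing A]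
    (hd : (3 : WithBot ℕ∞) ≤ ringKrullDim A) {y : A} (hy : y ∈ maximalIdeal A) (hy0 : y ≠ 0)
    [IsLocalRing (A ⧸ Ideal.span {y})] :
    2 ≤ LocCoh.depth (A ⧸ Ideal.span {y}) (A ⧸ Ideal.span {y}) := by
  have := RegLoc.isDomain A
  have hreg : IsSMulRegular A y := fun p q h => mul_left_cancel₀ hy0 h
  have h3 : (3 : ℕ∞) ≤ LocCoh.depth A A := by
    have hCM := (Depth.isCohenMacaulayLocalRing_of_isRegularLocalRing (R := A)).supportDim_eq_depth
    rw [Module.supportDim_self_eq_ringKrullDim] at hCM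
    rw [hCM] at hd
    exact WithBot.coe_le_coe.mp hd
  rw [Depth.depth_eq_idealDepth] at h3 ⊢
  rw [← Depth.idealDepth_quotSMulTop_add_one hy hreg] at h3
  rw [← IsLocalRing.map_maximalIdeal_of_surjective (algebraMap A (A ⧸ Ideal.span {y})) Ideal.Quotient.mk_surjective,
    Depth.idealDepth_map_of_surjective Ideal.Quotient.mk_surjective,
    Depth.idealDepth_congr ((Submodule.quotEquivOfEq _ _ (by
      rw [← Ideal.submodule_span_eq, ← Submodule.ideal_span_singleton_smul, smul_eq_mul, Ideal.mul_top])) :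
      (A ⧸ Ideal.span {y}) ≃ₗ[A] QuotSMulTop y A)]
  exact (WithTop.add_le_add_iff_right ENat.one_ne_top).mp (le_trans (le_of_eq two_add_one_eq_three) h3)

/-- A finite torsion-free module over a two-dimensional regular local ring without `𝔪`-torsion in
`M/cM` is free. -/
theorem free_of_dim_two {A : Type u} [CommRing A] [IsRegularLocalRing A] (hd : ringKrullDim A = 2)
    {M : Type u} [AddCommGroup M] [Module A M] [Module.Finite A M]
    (htf : ∀ c : A, c ≠ 0 → ∀ z : M, c • z = 0 → z = 0)
    (hC : ∀ c : A, c ≠ 0 → ∀ z : M, (∀ a ∈ maximalIdeal A, ∃ k : ℕ, ∃ w, a ^ k • z = c • w) →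
      ∃ w, z = c • w) :
    Module.Free A M := by
  by_cases hM : Subsingleton M
  · exact Module.Free.of_subsingleton A M
  rw [not_subsingleton_iff_nontrivial] at hM
  obtain ⟨x, hx, hx0⟩ : ∃ x ∈ maximalIdeal A, x ≠ 0 := by
    refine Submodule.exists_mem_ne_zero_of_ne_bot fun h => ?_
    have h0 := ringKrullDim_eq_zero_of_isField ((IsLocalRing.isField_iff_maximalIdeal_eq).mpr h)
    rw [h0] at hd
    exact absurd hd.symm (by norm_num)
  have hreg : IsSMulRegular M x := fun p q h => sub_eq_zero.mp (htf x hx0 _ (by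
    rw [smul_sub, show x • p = x • q from h, sub_self]))
  have h2 : (2 : ℕ∞) ≤ LocCoh.depth A M := by
    rw [Depth.depth_eq_idealDepth, ← Depth.idealDepth_quotSMulTop_add_one hx hreg]
    have h1 : 1 ≤ LocCoh.idealDepth (maximalIdeal A) (QuotSMulTop x M) := by
      refine Depth.one_le_idealDepth_iff.mpr fun p hp hle => ?_
      have hpp := Depth.isPrime_of_mem_associatedPrimes hp
      obtain ⟨f, hf⟩ := ((isAssociatedPrime_iff_exists_injective_linearMap p (QuotSMulTop x M)).mp hp).2
      have hpe : p = maximalIdeal A := le_antisymm (le_maximalIdeal hpp.ne_top) hle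
      obtain ⟨z, hz⟩ := Submodule.Quotient.mk_surjective _ (f (Submodule.Quotient.mk 1))
      obtain ⟨w, hw⟩ := hC x hx0 z fun a ha => ⟨1, by
        have : a • (Submodule.Quotient.mk 1 : A ⧸ p) = 0 := by
          rw [← Submodule.Quotient.mk_smul, Submodule.Quotient.mk_eq_zero, smul_eq_mul, mul_one]
          exact hpe ▸ ha
        have h0 := congrArg f this
        rw [map_smul, map_zero, ← hz, ← Submodule.Quotient.mk_smul, Submodule.Quotient.mk_eq_zero,
          Submodule.mem_smul_pointwise_iff_exists] at h0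
        obtain ⟨w, -, hw⟩ := h0
        exact ⟨w, by rw [pow_one, hw]⟩⟩
      refine hpp.ne_top ((Ideal.eq_top_iff_one p).mpr ?_)
      rw [← Ideal.Quotient.eq_zero_iff_mem]
      refine hf ((show f (Submodule.Quotient.mk 1) = 0 from ?_).trans (map_zero f).symm)
      rw [← hz, hw, Submodule.Quotient.mk_eq_zero, Submodule.mem_smul_pointwise_iff_exists]
      exact ⟨w, trivial, rfl⟩
    exact le_of_eq_of_le one_add_one_eq_two.symm (add_le_add h1 le_rfl)
  refine RegLoc.MCM.free_of_depth_eq_dim M (le_antisymm ?_ ?_)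
  · exact Depth.depth_le_supportDim.trans (Module.supportDim_le_ringKrullDim A M)
  · rw [hd]
    exact WithBot.coe_le_coe.mpr h2

theorem discr_baseChange {A : Type u} [CommRing A] {B : Type u} [CommRing B] [Algebra A B]
    {ι : Type u} [Fintype ι] [DecidableEq ι] (b : Module.Basis ι A B) (S : Type u) [CommRing S] [Algebra A S] :
    Algebra.discr S (Algebra.TensorProduct.basis S b) = algebraMap A S (Algebra.discr A b) := by
  have := Module.Free.of_basis b
  have := Module.Finite.of_basis b
  rw [Algebra.discr_def, Algebra.discr_def, RingHom.map_det]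
  congr 1
  ext i j
  rw [RingHom.mapMatrix_apply, Matrix.map_apply, Algebra.traceMatrix_apply, Algebra.traceMatrix_apply,
    Algebra.traceForm_apply, Algebra.traceForm_apply, Algebra.TensorProduct.basis_apply,
    Algebra.TensorProduct.basis_apply, Algebra.TensorProduct.tmul_mul_tmul, one_mul,
    Algebra.trace_apply, Algebra.trace_apply, ← LinearMap.trace_baseChange]
  congr 1
  refine TensorProduct.AlgebraTensorModule.ext fun s v => ?_
  simp [Algebra.TensorProduct.tmul_mul_tmul]

/-- A finite free algebra which is étale off the closed point is étale, in dimension `≥ 2`. -/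
theorem etale_of_free [IsNoetherianRing A] [IsDomain A] (hd : (2 : WithBot ℕ∞) ≤ ringKrullDim A)
    (B : Type u) [CommRing B] [Algebra A B] [Module.Finite A B] [Module.Free A B]
    (het : ∀ a ∈ maximalIdeal A, a ≠ 0 →
      Algebra.Etale (Localization.Away a) (Localization.Away a ⊗[A] B)) :
    Algebra.Etale A B := by
  classical
  let b := Module.Free.chooseBasis A B
  refine Groth.Agent.TraceEtale.Basic.etale_of_bijective A B
    ((Groth.Agent.TraceEtale.Basic.isUnit_discr_iff b).mp (by_contra fun hD => ?_))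
  set D := Algebra.discr A b
  have hDm : D ∈ maximalIdeal A := hD
  obtain ⟨P, hP, -⟩ := Ideal.exists_minimalPrimes_le (J := maximalIdeal A)
    ((Ideal.span_singleton_le_iff_mem _).mpr hDm)
  have := hP.1.1
  have hne : P ≠ maximalIdeal A := fun h => by
    have h1 := Ideal.height_le_one_of_isPrincipal_of_mem_minimalPrimes (Ideal.span {D}) P hP
    rw [h] at h1
    have h2 : (2 : ℕ∞) ≤ (maximalIdeal A).height := by
      rw [← IsLocalRing.maximalIdeal_height_eq_ringKrullDim] at hd
      exact WithBot.coe_le_coe.mp hd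
    exact absurd (h2.trans h1) (by norm_num)
  obtain ⟨a, ha, haP⟩ := SetLike.not_le_iff_exists.mp fun hle : maximalIdeal A ≤ P =>
    hne (le_antisymm (le_maximalIdeal hP.1.1.ne_top) hle)
  have := het a ha fun h => haP (h ▸ P.zero_mem)
  have hu := (Groth.Agent.TraceEtale.Basic.isUnit_discr_iff
    (Algebra.TensorProduct.basis (Localization.Away a) b)).mpr
      (Groth.Agent.TraceEtale.Basic.bijective_traceForm (Localization.Away a) (Localization.Away a ⊗[A] B))
  rw [discr_baseChange] at hu
  obtain ⟨w, hw⟩ := hu.exists_right_inv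
  obtain ⟨⟨c, t⟩, ht⟩ := IsLocalization.surj (Submonoid.powers a) w
  obtain ⟨m, hm⟩ := t.2
  have h1 : algebraMap A (Localization.Away a) (D * c) = algebraMap A _ t.1 := by
    rw [map_mul, ← ht, ← mul_assoc, hw, one_mul]
  obtain ⟨⟨e, ⟨q, rfl⟩⟩, he⟩ := (IsLocalization.eq_iff_exists (Submonoid.powers a) _).mp h1
  refine haP (hP.1.1.mem_of_pow_mem (q + m) ?_)
  rw [pow_add, show a ^ m = t.1 from hm, ← he]
  exact P.mul_mem_left _ (P.mul_mem_right _ (hP.1.2 (Ideal.mem_span_singleton_self D)))

end Groth.Agent.PurityReg
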